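import Groth.Agent.PicLib.PullbackGen
import Groth.Agent.Coherent.QcohOps
import Groth.Agent.Coherent.RpushComp
import Groth.Prelude.Def_ClSub2

/-!
# An invertible module and its trivialisations on two sections of projections
-/

set_option autoImplicit false
set_option backward.isDefEq.respectTransparency.types false

universe u

open CategoryTheory CategoryTheory.Limits AlgebraicGeometry Opposite TopologicalSpace
open Groth.Agent.Coherent Groth.Agent.PicLib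

namespace Groth.Agent.FlatMor12.Cube

variable {T P : Scheme.{u}}

/-- A section of a direct image seen as a function. -/
abbrev asFun (i : T ⟶ P) (W : P.Opens) (c : Γ((Scheme.Modules.pushforward i).obj (Coh.structureModule T), W)) :
    Γ(T, i ⁻¹ᵁ W) := c

/-- The restriction to a closed subscheme trivialising a module. -/
noncomputable def toPush (i : T ⟶ P) {L : P.Modules} (e : (Scheme.Modules.pullback i).obj L ≅ Coh.structureModule T) :
    L ⟶ (Scheme.Modules.pushforward i).obj (Coh.structureModule T) :=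
  (Scheme.Modules.pullbackPushforwardAdjunction i).unit.app L ≫ (Scheme.Modules.pushforward i).map e.hom

theorem toPush_smul (i : T ⟶ P) {L : P.Modules} (φ : L ⟶ (Scheme.Modules.pushforward i).obj (Coh.structureModule T))
    {W : P.Opens} (r : Γ(P, W)) (g : Γ(L, W)) :
    asFun i W (φ.app W (r • g)) = i.app W r * asFun i W (φ.app W g) :=
  Scheme.Modules.Hom.app_smul φ r g

theorem toPush_res (i : T ⟶ P) {L : P.Modules} (φ : L ⟶ (Scheme.Modules.pushforward i).obj (Coh.structureModule T))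
    {W W' : P.Opens} (h : W' ≤ W) (g : Γ(L, W)) :
    asFun i W' (φ.app W' (resM L h g)) = res (i.preimage_mono h) (asFun i W (φ.app W g)) :=
  app_resM φ h g

theorem isUnit_toPush (i : T ⟶ P) {L : P.Modules} (hL : PicF.IsInvertible L)
    (e : (Scheme.Modules.pullback i).obj L ≅ Coh.structureModule T) {W : P.Opens} {g : Γ(L, W)} (hg : IsGen L W g) :
    IsUnit (asFun i W ((toPush i e).app W g)) := by
  obtain ⟨r, hr⟩ := (isGen_pullSec i hg hL (i ⁻¹ᵁ W) le_rfl).2 (e.inv.app (i ⁻¹ᵁ W) (show Γ(T, i ⁻¹ᵁ W) from 1))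
  refine IsUnit.of_mul_eq_one r ?_
  rw [mul_comm]
  have h := congrArg (fun x => (show Γ(T, i ⁻¹ᵁ W) from e.hom.app (i ⁻¹ᵁ W) x)) hr
  simp only [resM_self, Scheme.Modules.Hom.app_smul] at h
  refine h.trans ?_
  show (e.inv ≫ e.hom).app (i ⁻¹ᵁ W) (show Γ(T, i ⁻¹ᵁ W) from 1) = (1 : Γ(T, i ⁻¹ᵁ W))
  rw [e.inv_hom_id]
  rfl

/-- Every map from `L` to a direct image from `T` kills the kernel. -/
theorem kernel_toPush_comp (i : T ⟶ P) {L : P.Modules} (e : (Scheme.Modules.pullback i).obj L ≅ Coh.structureModule T)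
    {M : T.Modules} (φ : L ⟶ (Scheme.Modules.pushforward i).obj M) : kernel.ι (toPush i e) ≫ φ = 0 := by
  let adj := Scheme.Modules.pullbackPushforwardAdjunction i
  rw [show φ = toPush i e ≫ (Scheme.Modules.pushforward i).map (e.inv ≫ (adj.homEquiv _ _).symm φ) by
    rw [toPush, Category.assoc, ← Functor.map_comp, Iso.hom_inv_id_assoc, ← Adjunction.homEquiv_unit,
      Equiv.apply_symm_apply], kernel.condition_assoc, zero_comp]

/-- Lifting a function along the retraction. -/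
theorem exists_retr_lift (i : T ⟶ P) [IsClosedImmersion i] (r : P ⟶ T) (hr : i ≫ r = 𝟙 T) (W : P.Opens)
    (c : Γ(T, i ⁻¹ᵁ W)) (x : P) (hx : x ∈ W) :
    ∃ (W' : P.Opens) (h : W' ≤ W), x ∈ W' ∧ ∃ R : Γ(P, W'), i.app W' R = res (i.preimage_mono h) c ∧
      ∀ {T' : Scheme.{u}} (i' : T' ⟶ P),
        (∀ hh, (i' ≫ r).appLE (i ⁻¹ᵁ W) (i' ⁻¹ᵁ W') hh c = 0) → i'.app W' R = 0 := by
  by_cases hxi : x ∈ Set.range i
  · obtain ⟨t, rfl⟩ := hxi
    refine ⟨W ⊓ r ⁻¹ᵁ (i ⁻¹ᵁ W), inf_le_left, ⟨hx, ?_⟩, r.appLE (i ⁻¹ᵁ W) _ inf_le_right c, ?_, ?_⟩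
    · show i (r (i t)) ∈ W
      rw [← Scheme.Hom.comp_apply i r, hr]
      exact hx
    · have key : ∀ (φ : T ⟶ T) (_ : φ = 𝟙 T) (V V' : T.Opens) (h : V' ≤ φ ⁻¹ᵁ V) (h' : V' ≤ V) (c : Γ(T, V)),
          φ.appLE V V' h c = res h' c := by
        rintro φ rfl V V' h h' c
        simp [Scheme.Hom.appLE]
        rfl
      have h1 := key (i ≫ r) hr (i ⁻¹ᵁ W) (i ⁻¹ᵁ (W ⊓ r ⁻¹ᵁ (i ⁻¹ᵁ W))) (fun z hz => hz.2) (i.preimage_mono inf_le_left) c
      refine Eq.trans ?_ h1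
      rw [Scheme.Hom.app_eq_appLE, ← ConcreteCategory.comp_apply, Scheme.Hom.appLE_comp_appLE]
    · intro T' i' h
      refine Eq.trans ?_ (h fun z hz => hz.2)
      rw [Scheme.Hom.app_eq_appLE, ← ConcreteCategory.comp_apply, Scheme.Hom.appLE_comp_appLE]
  · let W' : P.Opens := W ⊓ ⟨(Set.range i)ᶜ, i.isClosedEmbedding.isClosed_range.isOpen_compl⟩
    have hW' : i ⁻¹ᵁ W' = ⊥ := eq_bot_iff.2 fun t ht => ht.2 ⟨t, rfl⟩
    have : Subsingleton Γ(T, i ⁻¹ᵁ W') := by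
      rw [hW']
      infer_instance
    exact ⟨W', inf_le_left, ⟨hx, hxi⟩, 0, Subsingleton.elim _ _, fun i' _ => map_zero _⟩

theorem epi_toPush (i : T ⟶ P) [IsClosedImmersion i] (r : P ⟶ T) (hr : i ≫ r = 𝟙 T) {L : P.Modules}
    (hL : PicF.IsInvertible L) (e : (Scheme.Modules.pullback i).obj L ≅ Coh.structureModule T) :
    Epi (toPush i e) := by
  refine epi_of_locally_surjective _ fun W c x hx => ?_
  obtain ⟨U, hxU, g, hg⟩ := exists_isGen hL x
  obtain ⟨w, hw⟩ := isUnit_toPush i hL e (hg.restrict (inf_le_right : W ⊓ U ≤ U))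
  obtain ⟨W', hle, hxW', R, hR, -⟩ := exists_retr_lift i r hr (W ⊓ U)
    ((↑w⁻¹ : Γ(T, i ⁻¹ᵁ (W ⊓ U))) * res (i.preimage_mono inf_le_left) (asFun i W c)) x ⟨hx, hxU⟩
  refine ⟨W', hle.trans inf_le_left, hxW', R • resM L hle (resM L inf_le_right g), ?_⟩
  show asFun i W' _ = res (i.preimage_mono (hle.trans inf_le_left)) (asFun i W c)
  rw [toPush_smul, toPush_res, hR, ← hw, ← map_mul, mul_comm, ← mul_assoc, Units.mul_inv, one_mul, PicLib.res_res]

theorem epi_unitToPush (i : T ⟶ P) [IsClosedImmersion i] (r : P ⟶ T) (hr : i ≫ r = 𝟙 T) :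
    Epi (ClSub.unitToPush i) := by
  refine epi_of_locally_surjective _ fun W c x hx => ?_
  obtain ⟨W', hle, hxW', R, hR, -⟩ := exists_retr_lift i r hr W (asFun i W c) x hx
  exact ⟨W', hle, hxW', R, hR⟩

section Two

variable {X Y S : Scheme.{u}} {u : X ⟶ P} {v : Y ⟶ P} {f : X ⟶ S} {g : Y ⟶ S} {σ : S ⟶ X} {τ : S ⟶ Y}
  {p : P ⟶ X} {q : P ⟶ Y} {L : P.Modules}
  (e₁ : (Scheme.Modules.pullback u).obj L ≅ Coh.structureModule X)
  (e₂ : (Scheme.Modules.pullback v).obj L ≅ Coh.structureModule Y)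

/-- Restriction of functions on `v` to the common section. -/
noncomputable abbrev toMeet (v : Y ⟶ P) (τ : S ⟶ Y) :
    (Scheme.Modules.pushforward v).obj (Coh.structureModule Y) ⟶
      (Scheme.Modules.pushforward v).obj ((Scheme.Modules.pushforward τ).obj (Coh.structureModule S)) :=
  (Scheme.Modules.pushforward v).map (ClSub.unitToPush τ)

theorem kernel_toPush_toMeet (hw : σ ≫ u = τ ≫ v) :
    kernel.ι (toPush u e₁) ≫ toPush v e₂ ≫ toMeet v τ = 0 := by
  let κ := (Scheme.Modules.pushforwardComp τ v).app (Coh.structureModule S) ≪≫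
    (Scheme.Modules.pushforwardCongr hw.symm).app (Coh.structureModule S) ≪≫
    ((Scheme.Modules.pushforwardComp σ u).app (Coh.structureModule S)).symm
  refine (cancel_mono κ.hom).1 ?_
  rw [zero_comp, Category.assoc]
  exact kernel_toPush_comp u e₁ _

/-- The map from the kernel on `u` to the kernel on `v`. -/
noncomputable def kerToKer (hw : σ ≫ u = τ ≫ v) : kernel (toPush u e₁) ⟶ kernel (toMeet v τ) :=
  kernel.lift _ (kernel.ι (toPush u e₁) ≫ toPush v e₂)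
    (by rw [Category.assoc, kernel_toPush_toMeet e₁ e₂ hw])

theorem kerToKer_ι (hw : σ ≫ u = τ ≫ v) :
    kerToKer e₁ e₂ hw ≫ kernel.ι (toMeet v τ) = kernel.ι (toPush u e₁) ≫ toPush v e₂ :=
  kernel.lift_ι _ _ _

theorem epi_kerToKer [IsClosedImmersion v] (hL : PicF.IsInvertible L) (hw : σ ≫ u = τ ≫ v)
    (hu : u ≫ q = f ≫ τ) (hv : v ≫ q = 𝟙 Y) : Epi (kerToKer e₁ e₂ hw) := by
  refine epi_of_locally_surjective _ fun W n x hx => ?_
  obtain ⟨U, hxU, γ, hγ⟩ := exists_isGen hL x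
  obtain ⟨w, hw'⟩ := isUnit_toPush v hL e₂ (hγ.restrict (inf_le_right : W ⊓ U ≤ U))
  let c : Γ(Y, v ⁻¹ᵁ W) := asFun v W ((kernel.ι (toMeet v τ)).app W n)
  have hc : τ.app (v ⁻¹ᵁ W) c = 0 := kernel_ι_app_zero (toMeet v τ) W n
  let c' : Γ(Y, v ⁻¹ᵁ (W ⊓ U)) := (↑w⁻¹ : Γ(Y, v ⁻¹ᵁ (W ⊓ U))) * res (v.preimage_mono inf_le_left) c
  obtain ⟨W', hle, hxW', R, hR, hkill⟩ := exists_retr_lift v q hv (W ⊓ U) c' x ⟨hx, hxU⟩
  have hτc : τ.app (v ⁻¹ᵁ (W ⊓ U)) c' = 0 := by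
    rw [map_mul, ← ConcreteCategory.comp_apply (Y.presheaf.map _), τ.naturality, ConcreteCategory.comp_apply, hc,
      map_zero, mul_zero]
  have hRu : u.app W' R = 0 := by
    refine hkill u fun hh => ?_
    have : ∀ (φ : X ⟶ Y) (_ : φ = f ≫ τ) (h : u ⁻¹ᵁ W' ≤ φ ⁻¹ᵁ (v ⁻¹ᵁ (W ⊓ U))),
        φ.appLE (v ⁻¹ᵁ (W ⊓ U)) (u ⁻¹ᵁ W') h c' = 0 := by
      rintro φ rfl h
      rw [Scheme.Hom.comp_appLE, ConcreteCategory.comp_apply, hτc, map_zero]
    exact this _ hu _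
  obtain ⟨k, hk⟩ := kernel_sections_exact (toPush u e₁) (R • resM L hle (resM L inf_le_right γ)) (by
    show asFun u W' _ = 0
    rw [toPush_smul, hRu, zero_mul])
  refine ⟨W', hle.trans inf_le_left, hxW', k, app_injective_of_mono (kernel.ι (toMeet v τ)) W' ?_⟩
  rw [app_resM]
  refine (ConcreteCategory.congr_hom (congrArg (fun ψ => Scheme.Modules.Hom.app ψ W') (kerToKer_ι e₁ e₂ hw)) k).trans ?_
  show asFun v W' ((toPush v e₂).app W' ((kernel.ι (toPush u e₁)).app W' k)) = res _ c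
  rw [hk, toPush_smul, toPush_res, hR, ← hw', ← map_mul, mul_comm, ← mul_assoc, Units.mul_inv, one_mul, PicLib.res_res]

end Two

end Groth.Agent.FlatMor12.Cube
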