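import Groth.Agent.FlatMor12.Cube.Locus

/-!
# The theorem of the cube on a triple product
-/

set_option autoImplicit false
set_option linter.style.haveILetI false
set_option backward.isDefEq.respectTransparency.types false
set_option maxHeartbeats 1000000

universe u

open CategoryTheory CategoryTheory.Limits AlgebraicGeometry Opposite TopologicalSpace
open Groth.Agent.Coherent Groth.Agent.PicLib

namespace Groth.Agent.FlatMor12.Cube

theorem exists_clopen_trivial_triple {S X Y Z : Scheme.{u}} (pX : X ⟶ S) (pY : Y ⟶ S) (pZ : Z ⟶ S)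
    [Flat pX] [IsProper pX] [LocallyOfFinitePresentation pX] [GeometricallyIntegral pX]
    [Flat pY] [IsProper pY] [LocallyOfFinitePresentation pY] [GeometricallyIntegral pY]
    (x : S ⟶ X) (hx : x ≫ pX = 𝟙 S) (y : S ⟶ Y) (hy : y ≫ pY = 𝟙 S)
    (a : PicM (pullback (pullback.fst pX pY ≫ pX) pZ))
    (ax : Y ⟶ pullback pX pY) (hax1 : ax ≫ pullback.fst pX pY = pY ≫ x) (hax2 : ax ≫ pullback.snd pX pY = 𝟙 Y)
    (ay : X ⟶ pullback pX pY) (hay1 : ay ≫ pullback.fst pX pY = 𝟙 X) (hay2 : ay ≫ pullback.snd pX pY = pX ≫ y)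
    (m₁ : pullback (ax ≫ (pullback.fst pX pY ≫ pX)) pZ ⟶ pullback (pullback.fst pX pY ≫ pX) pZ)
    (hm₁ : m₁ ≫ pullback.fst _ pZ = pullback.fst _ pZ ≫ ax) (hm₁' : m₁ ≫ pullback.snd _ pZ = pullback.snd _ pZ)
    (m₂ : pullback (ay ≫ (pullback.fst pX pY ≫ pX)) pZ ⟶ pullback (pullback.fst pX pY ≫ pX) pZ)
    (hm₂ : m₂ ≫ pullback.fst _ pZ = pullback.fst _ pZ ≫ ay) (hm₂' : m₂ ≫ pullback.snd _ pZ = pullback.snd _ pZ)
    (h₁ : PicM.pull m₁ a = 1) (h₂ : PicM.pull m₂ a = 1) (z : Z)
    (h₃ : PicM.pull ((pullback.snd (pullback.fst pX pY ≫ pX) pZ).fiberι z) a = 1) :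
    ∃ W : Z.Opens, IsClosed (W : Set Z) ∧ z ∈ W ∧
      PicM.pull ((pullback.snd (pullback.fst pX pY ≫ pX) pZ) ⁻¹ᵁ W).ι a = 1 := by
  let P' := pullback (pullback.fst pX pY ≫ pX) pZ
  let f := pullback.snd pX pZ
  let g := pullback.snd pY pZ
  let σ : Z ⟶ pullback pX pZ := pullback.lift (pZ ≫ x) (𝟙 Z) (by
    rw [Category.assoc, hx, Category.comp_id, Category.id_comp])
  let τ : Z ⟶ pullback pY pZ := pullback.lift (pZ ≫ y) (𝟙 Z) (by
    rw [Category.assoc, hy, Category.comp_id, Category.id_comp])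
  have hσ : σ ≫ f = 𝟙 Z := pullback.lift_snd _ _ _
  have hτ : τ ≫ g = 𝟙 Z := pullback.lift_snd _ _ _
  let u : pullback pX pZ ⟶ pullback f g := pullback.lift (𝟙 _) (f ≫ τ) (by
    rw [Category.id_comp, Category.assoc, hτ, Category.comp_id])
  let v : pullback pY pZ ⟶ pullback f g := pullback.lift (g ≫ σ) (𝟙 _) (by
    rw [Category.id_comp, Category.assoc, hσ, Category.comp_id])
  have A : Axes f g σ τ u v := ⟨hσ, hτ, pullback.lift_fst _ _ _, pullback.lift_snd _ _ _, pullback.lift_fst _ _ _,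
    pullback.lift_snd _ _ _⟩
  let Ψ : pullback f g ⟶ P' := pullback.lift
    (pullback.lift (pullback.fst f g ≫ pullback.fst pX pZ) (pullback.snd f g ≫ pullback.fst pY pZ) (by
      rw [Category.assoc, pullback.condition, Category.assoc, pullback.condition (f := pY), ← Category.assoc,
        ← Category.assoc, pullback.condition]))
    (pullback.fst f g ≫ f) (by
      rw [pullback.lift_fst_assoc, Category.assoc, pullback.condition, ← Category.assoc])
  let Φ : P' ⟶ pullback f g := pullback.lift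
    (pullback.lift (pullback.fst _ pZ ≫ pullback.fst pX pY) (pullback.snd _ pZ) (by
      rw [Category.assoc]; exact pullback.condition))
    (pullback.lift (pullback.fst _ pZ ≫ pullback.snd pX pY) (pullback.snd _ pZ) (by
      rw [Category.assoc, ← pullback.condition (f := pX)]; exact pullback.condition))
    (by rw [pullback.lift_snd, pullback.lift_snd])
  have hΨ0 : Ψ ≫ pullback.fst (pullback.fst pX pY ≫ pX) pZ = pullback.lift
    (pullback.fst f g ≫ pullback.fst pX pZ) (pullback.snd f g ≫ pullback.fst pY pZ) _ := pullback.lift_fst _ _ _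
  have hΨ1 : Ψ ≫ pullback.fst (pullback.fst pX pY ≫ pX) pZ ≫ pullback.fst pX pY = pullback.fst f g ≫ pullback.fst pX pZ := by
    rw [← Category.assoc, hΨ0]
    exact pullback.lift_fst _ _ _
  have hΨ2 : Ψ ≫ pullback.fst (pullback.fst pX pY ≫ pX) pZ ≫ pullback.snd pX pY = pullback.snd f g ≫ pullback.fst pY pZ := by
    rw [← Category.assoc, hΨ0]
    exact pullback.lift_snd _ _ _
  have hΦ1 : Φ ≫ pullback.fst f g = pullback.lift (pullback.fst _ pZ ≫ pullback.fst pX pY) (pullback.snd _ pZ) _ :=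
    pullback.lift_fst _ _ _
  have hΦ2 : Φ ≫ pullback.snd f g = pullback.lift (pullback.fst _ pZ ≫ pullback.snd pX pY) (pullback.snd _ pZ) _ :=
    pullback.lift_snd _ _ _
  have hΦΨ : Φ ≫ Ψ = 𝟙 P' := by
    apply pullback.hom_ext
    · apply pullback.hom_ext
      · rw [Category.assoc, Category.assoc, hΨ1, ← Category.assoc, hΦ1, Category.id_comp]
        exact pullback.lift_fst _ _ _
      · rw [Category.assoc, Category.assoc, hΨ2, ← Category.assoc, hΦ2, Category.id_comp]
        exact pullback.lift_fst _ _ _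
    · rw [Category.assoc, show Ψ ≫ pullback.snd (pullback.fst pX pY ≫ pX) pZ = pullback.fst f g ≫ f from
        pullback.lift_snd _ _ _, ← Category.assoc, hΦ1, Category.id_comp]
      exact pullback.lift_snd _ _ _
  have hΨ : Ψ ≫ pullback.snd (pullback.fst pX pY ≫ pX) pZ = toS f g := pullback.lift_snd _ _ _
  obtain ⟨L, hL, e⟩ := PicM.exists_eq_of (PicM.pull Ψ a)
  have iso : ∀ {T : Scheme.{u}} (i : T ⟶ pullback f g), PicM.pull i (PicM.pull Ψ a) = 1 →
      Nonempty ((Scheme.Modules.pullback i).obj L ≅ Coh.structureModule T) := fun i h => by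
    rw [e, PicM.pull_of, PicM.of_eq_one_iff] at h
    exact h
  let j₁ : pullback pY pZ ⟶ pullback (ax ≫ (pullback.fst pX pY ≫ pX)) pZ := pullback.lift (pullback.fst pY pZ) g (by
    rw [show ax ≫ pullback.fst pX pY ≫ pX = pY by
      rw [← Category.assoc, hax1, Category.assoc, hx, Category.comp_id]]
    exact pullback.condition)
  have hv : v ≫ Ψ = j₁ ≫ m₁ := by
    apply pullback.hom_ext
    · rw [Category.assoc j₁, hm₁, ← Category.assoc j₁, show j₁ ≫ pullback.fst _ pZ = pullback.fst pY pZ from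
        pullback.lift_fst _ _ _]
      apply pullback.hom_ext
      · rw [Category.assoc (pullback.fst pY pZ), hax1, pullback.condition_assoc, Category.assoc, Category.assoc, hΨ1,
          ← Category.assoc, A.hv1, Category.assoc, show σ ≫ pullback.fst pX pZ = pZ ≫ x from pullback.lift_fst _ _ _]
      · rw [Category.assoc (pullback.fst pY pZ), hax2, Category.assoc, Category.assoc, hΨ2, ← Category.assoc, A.hv2,
          Category.id_comp, Category.comp_id]
    · rw [Category.assoc j₁, hm₁', show j₁ ≫ pullback.snd _ pZ = g from pullback.lift_snd _ _ _, Category.assoc, hΨ,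
        A.v_toS]
  let j₂ : pullback pX pZ ⟶ pullback (ay ≫ (pullback.fst pX pY ≫ pX)) pZ := pullback.lift (pullback.fst pX pZ) f (by
    rw [show ay ≫ pullback.fst pX pY ≫ pX = pX by rw [← Category.assoc, hay1, Category.id_comp]]
    exact pullback.condition)
  have hu : u ≫ Ψ = j₂ ≫ m₂ := by
    apply pullback.hom_ext
    · rw [Category.assoc j₂, hm₂, ← Category.assoc j₂, show j₂ ≫ pullback.fst _ pZ = pullback.fst pX pZ from
        pullback.lift_fst _ _ _]
      apply pullback.hom_ext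
      · rw [Category.assoc (pullback.fst pX pZ), hay1, Category.assoc, Category.assoc, hΨ1, ← Category.assoc, A.hu1,
          Category.id_comp, Category.comp_id]
      · rw [Category.assoc (pullback.fst pX pZ), hay2, pullback.condition_assoc, Category.assoc, Category.assoc, hΨ2,
          ← Category.assoc, A.hu2, Category.assoc, show τ ≫ pullback.fst pY pZ = pZ ≫ y from pullback.lift_fst _ _ _]
    · rw [Category.assoc j₂, hm₂', show j₂ ≫ pullback.snd _ pZ = f from pullback.lift_snd _ _ _, Category.assoc, hΨ,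
        A.u_toS]
  obtain ⟨e₂⟩ := iso v (by rw [PicM.pull_pull, hv, ← PicM.pull_pull, h₁, map_one])
  obtain ⟨e₁⟩ := iso u (by rw [PicM.pull_pull, hu, ← PicM.pull_pull, h₂, map_one])
  let π := pullback.snd (pullback.fst pX pY ≫ pX) pZ
  let φ : (toS f g).fiber z ⟶ π.fiber z := pullback.lift ((toS f g).fiberι z ≫ Ψ)
    ((toS f g).fiberToSpecResidueField z) (by rw [Category.assoc, hΨ]; exact (toS f g).fiber_fac z)
  obtain ⟨e₃⟩ := iso ((toS f g).fiberι z) (by
    rw [PicM.pull_pull, show (toS f g).fiberι z ≫ Ψ = φ ≫ π.fiberι z from (pullback.lift_fst _ _ _).symm,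
      ← PicM.pull_pull, h₃, map_one])
  obtain ⟨W, hWc, hzW, ⟨eW⟩⟩ := A.exists_clopen_trivial hL e₂ e₁ z e₃
  refine ⟨W, hWc, hzW, ?_⟩
  have hW : PicM.pull (over' f g W).ι (PicM.pull Ψ a) = 1 := by
    rw [e, PicM.pull_of, PicM.of_eq_one_iff]
    exact ⟨((Scheme.Modules.restrictFunctorIsoPullback (over' f g W).ι).app L).symm ≪≫ eW⟩
  have hrange : Set.range ((π ⁻¹ᵁ W).ι ≫ Φ) ⊆ Set.range (over' f g W).ι := by
    rintro _ ⟨p, rfl⟩
    rw [Scheme.Opens.range_ι]
    show (toS f g) (((π ⁻¹ᵁ W).ι ≫ Φ) p) ∈ W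
    rw [← Scheme.Hom.comp_apply, ← hΨ, Category.assoc, ← Category.assoc Φ, hΦΨ, Category.id_comp]
    exact p.2
  have hfac : IsOpenImmersion.lift (over' f g W).ι ((π ⁻¹ᵁ W).ι ≫ Φ) hrange ≫ (over' f g W).ι ≫ Ψ = (π ⁻¹ᵁ W).ι := by
    rw [← Category.assoc, IsOpenImmersion.lift_fac, Category.assoc, hΦΨ, Category.comp_id]
  calc PicM.pull (π ⁻¹ᵁ W).ι a = PicM.pull (IsOpenImmersion.lift (over' f g W).ι ((π ⁻¹ᵁ W).ι ≫ Φ) hrange)
        (PicM.pull (over' f g W).ι (PicM.pull Ψ a)) := by rw [PicM.pull_pull, PicM.pull_pull, Category.assoc, hfac]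
    _ = 1 := by rw [hW, map_one]

end Groth.Agent.FlatMor12.Cube
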