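import Groth.Agent.FlatMor12.Cube.Fibre
import Groth.Agent.CubeLib.FibrewiseTriv

/-!
# Scalar functions on the fibres are stable under base change
-/

set_option autoImplicit false
set_option linter.style.haveILetI false
set_option backward.isDefEq.respectTransparency.types false

universe u

open CategoryTheory CategoryTheory.Limits AlgebraicGeometry Opposite TopologicalSpace
open Groth.Agent.Coherent Groth.Agent.Coherent.CohBC

namespace Groth.Agent.FlatMor12.Cube

variable {X S : Scheme.{u}} (f : X ⟶ S)

theorem fiberRank_structure_eq_finrank (y : S) :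
    CohIII.fiberRank f (Coh.structureModule X) 0 y = Module.finrank (S.residueField y) Γ(f.fiber y, ⊤) := by
  let K := S.residueField y
  let φ := baseHom K (f.fiber y)
  let E : Coh.HH (f.fiber y) (Coh.structureModule (f.fiber y)) 0 ≃ₗ[K]
      GA φ (Coh.structureModule (f.fiber y)) :=
    (HHA (A := K) (Coh.structureModule (f.fiber y)) 0).trans (secA φ (Coh.structureModule (f.fiber y)))
  refine ((finrank_HH_congr K (PicLoc.pullbackStructureIso (f.fiberι y)) 0).trans E.finrank_eq).trans ?_
  let e : Γ(f.fiber y, ⊤) →ₗ[K] GA φ (Coh.structureModule (f.fiber y)) :=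
    { toFun := fun a => (show GA φ (Coh.structureModule (f.fiber y)) from (a : Γ(f.fiber y, ⊤)))
      map_add' := fun _ _ => rfl
      map_smul' := fun c a => Algebra.smul_def c a }
  exact (LinearEquiv.ofBijective e ⟨fun _ _ h => h, fun b => ⟨b, rfl⟩⟩).finrank_eq.symm

/-- Scalar functions on all fibres give `O → f_* O` on every open. -/
theorem isIso_app_of_scalar [Flat f] [IsProper f] [LocallyOfFinitePresentation f]
    (hy : ∀ y : S, Function.Bijective (algebraMap (S.residueField y) Γ(f.fiber y, ⊤))) (U : S.Opens) :
    IsIso (f.app U) := by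
  haveI : IsIso (ClSub.unitToPush f) := Clifford24.isIso_unitToPush f hy
  rw [ConcreteCategory.isIso_iff_bijective]
  exact ConcreteCategory.bijective_of_isIso ((ClSub.unitToPush f).app U)

theorem bijective_algebraMap_baseChange [Flat f] [IsProper f]
    (hy : ∀ y : S, Module.finrank (S.residueField y) Γ(f.fiber y, ⊤) = 1) {T : Scheme.{u}} (g : T ⟶ S) (t : T) :
    Function.Bijective (algebraMap (T.residueField t) Γ((pullback.snd f g).fiber t, ⊤)) := by
  haveI := isQCoh_structureModule (X := X)
  haveI : IsProper (pullback.snd f g) := MorphismProperty.pullback_snd (P := @IsProper) _ _ inferInstance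
  refine CubeLib.bijective_algebraMap_fibre_of_finrank _ ?_
  rw [← fiberRank_structure_eq_finrank,
    show CohIII.fiberRank (pullback.snd f g) (Coh.structureModule _) 0 t =
      CohIII.fiberRank (pullback.snd f g) ((Scheme.Modules.pullback (pullback.fst f g)).obj (Coh.structureModule X)) 0 t from
      (finrank_HH_congr _ ((Scheme.Modules.pullback ((pullback.snd f g).fiberι t)).mapIso
        (pullOne (pullback.fst f g))) 0).symm,
    fiberRank_pullback (IsPullback.of_hasPullback f g) (Coh.structureModule X) 0 t, fiberRank_structure_eq_finrank]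
  exact hy (g t)

end Groth.Agent.FlatMor12.Cube
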