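import Groth.Agent.FlatMor12.Cube.Locus
import Groth.Agent.FlatMor12.Cube.Scalar
import Groth.Agent.FlatMor12.FreeFibres

/-!
# The see-saw theorem near a fibre: generators from surjective degree-zero base change
-/

set_option autoImplicit false
set_option linter.style.haveILetI false
set_option backward.isDefEq.respectTransparency.types false
set_option maxHeartbeats 1000000

universe u

open CategoryTheory CategoryTheory.Limits AlgebraicGeometry Opposite TopologicalSpace
open Groth.Agent.Coherent Groth.Agent.PicLib Groth.Agent.CubeLib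

namespace Groth.Agent.FlatMor12.Cube

variable {X S : Scheme.{u}} (f : X ⟶ S) [Flat f] [IsProper f] [LocallyOfFinitePresentation f]
  (hy : ∀ s : S, Function.Bijective (algebraMap (S.residueField s) Γ(f.fiber s, ⊤)))
  {L : X.Modules} (hL : PicF.IsInvertible L)
include hy hL

/-- A module trivial on a fibre whose sections extend has a generator near the fibre. -/
theorem exists_gen_of_chart (s : S) (hs : PicM.pull (f.fiberι s) (PicM.of hL) = 1) (C : CohExch.Chart f L)
    (hsC : s ∈ C.U) (h0 : C.Flat ((0 : ℕ) : ℤ)) :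
    ∃ U : S.Opens, s ∈ U ∧ ∃ t : Γ(L, f ⁻¹ᵁ U), IsGen L _ t := by
  haveI := H8Coh.FibreAmple.isQCoh_of_invertible hL
  have hfl : FlatMod.IsFlatOver f L := CohBC.isFlatOver_of_isFinLocFree f fun x =>
    let ⟨U, hx, e⟩ := PicLib.isFinLocFreeOfRank_one hL x
    ⟨U, 1, hx, e⟩
  rw [PicM.pull_of, PicM.of_eq_one_iff] at hs
  obtain ⟨e⟩ := hs
  obtain ⟨W, n, hsW, ⟨eN⟩⟩ := C.exists_trivial_nhd0 h0 hsC
  have hn : n = 1 := (C.fiberRank_eq_of_free hfl h0 hsC hsW eN).symm.trans
    (FreeFibres.fiberRank_of_free f L s (hy s) (r := 1) (e ≪≫ (freeModOneIso _).symm))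
  subst hn
  obtain ⟨m, hm⟩ := exists_isGen_of_iso (eN ≪≫ freeModOneIso _)
  let ξ := S.fromSpecResidueField s
  have hsq : IsPullback (f.fiberι s) (f.fiberToSpecResidueField s) f ξ :=
    IsPullback.of_hasPullback f (S.fromSpecResidueField s)
  have hξ : ∀ z : Spec (S.residueField s), ξ z = s := fun z => S.fromSpecResidueField_apply s z
  haveI : IsIso (CohBC.bc0 f ξ (f.fiberToSpecResidueField s) (f.fiberι s) hsq.w L) :=
    CohExch.isIso_bc0_of_flat (F := L) hsq fun z => ⟨C, (hξ z).symm ▸ hsC, h0⟩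
  haveI : Nontrivial Γ(f.fiber s, ⊤) := (hy s).1.nontrivial
  obtain ⟨q⟩ : Nonempty (f.fiber s) := by
    by_contra h
    rw [not_nonempty_iff] at h
    exact not_subsingleton Γ(f.fiber s, ⊤) inferInstance
  have htop : (⊤ : (f.fiber s).Opens) ≤ f.fiberι s ⁻¹ᵁ (f ⁻¹ᵁ W) := fun z _ => by
    show f (f.fiberι s z) ∈ W
    rw [show f (f.fiberι s z) = s from (f.range_fiberι s).le ⟨z, rfl⟩]
    exact hsW
  let tW : Γ(L, f ⁻¹ᵁ W) := m
  let R : Γ(f.fiber s, f.fiberι s ⁻¹ᵁ (f ⁻¹ᵁ W)) :=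
    asFun (f.fiberι s) (f ⁻¹ᵁ W) ((toPush (f.fiberι s) e).app _ tW)
  obtain ⟨c, hc⟩ := (hy s).2 (res htop R)
  have hR : c ≠ 0 := by
    rintro rfl
    rw [map_zero] at hc
    -- the base change of the generator does not vanish
    have h1 := CohExch.bc0_pullSec hsq.w L W tW
    have h2 : pullSec (f.fiberι s) tW = 0 := by
      have hle : f.fiberι s ⁻¹ᵁ (f ⁻¹ᵁ W) ≤ (⊤ : (f.fiber s).Opens) := le_top
      have h3 : res hle (res htop R) = R := by rw [PicLib.res_res]; exact resM_self (Coh.structureModule _) _ _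
      have h4 : e.hom.app (f.fiberι s ⁻¹ᵁ (f ⁻¹ᵁ W)) (pullSec (f.fiberι s) tW) = 0 := by
        rw [show e.hom.app (f.fiberι s ⁻¹ᵁ (f ⁻¹ᵁ W)) (pullSec (f.fiberι s) tW) = R from rfl, ← h3, ← hc]
        exact map_zero _
      exact (ConcreteCategory.bijective_of_isIso (e.hom.app _)).1 (h4.trans (map_zero _).symm)
    rw [h2, map_zero] at h1
    have h5 : pullSec ξ (show Γ((Scheme.Modules.pushforward f).obj L, W) from tW) = 0 :=
      (ConcreteCategory.bijective_of_isIso
        ((CohBC.bc0 f ξ (f.fiberToSpecResidueField s) (f.fiberι s) hsq.w L).app (ξ ⁻¹ᵁ W))).1 (h1.trans (map_zero _).symm)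
    obtain ⟨ψ, hψ⟩ := exists_pullback_coordinate ξ (U := W) hm
    rw [h5] at hψ
    have h6 : Nontrivial Γ((ξ ⁻¹ᵁ W).toScheme, (ξ ⁻¹ᵁ W).ι ⁻¹ᵁ (ξ ⁻¹ᵁ W)) := by
      haveI : Nonempty ((ξ ⁻¹ᵁ W).ι ⁻¹ᵁ (ξ ⁻¹ᵁ W)) :=
        ⟨⟨⟨IsLocalRing.closedPoint (S.residueField s), show ξ _ ∈ W by rw [hξ]; exact hsW⟩,
          show ξ _ ∈ W by rw [hξ]; exact hsW⟩⟩
      infer_instance
    exact one_ne_zero (α := Γ((ξ ⁻¹ᵁ W).toScheme, (ξ ⁻¹ᵁ W).ι ⁻¹ᵁ (ξ ⁻¹ᵁ W))) (hψ.symm.trans (map_zero _))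
  have hfib : ∀ p : X, f p = s → GenNear L tW p := fun p hp => by
    obtain ⟨z, rfl⟩ : p ∈ Set.range (f.fiberι s) := by rw [Scheme.Hom.range_fiberι]; exact hp
    refine (genNear_iff (f.fiberι s) hL e tW z (htop (Set.mem_univ z))).2 ?_
    have h7 : z ∈ (f.fiber s).basicOpen (res htop R) := by
      rw [← hc, Scheme.basicOpen_of_isUnit _ ((Ne.isUnit hR).map (algebraMap (S.residueField s) Γ(f.fiber s, ⊤)))]
      trivial
    rw [Scheme.basicOpen_res] at h7
    exact h7.2
  let U : S.Opens := W ⊓ ⟨(f '' {z | GenNear L tW z}ᶜ)ᶜ,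
    (f.isClosedMap _ (isOpen_genNear L tW).isClosed_compl).isOpen_compl⟩
  refine ⟨U, ⟨hsW, fun ⟨p, hp, hps⟩ => hp (hfib p hps)⟩, resM L (f.preimage_mono (inf_le_left : U ≤ W)) tW, ?_⟩
  have hgen : ∀ p : (f ⁻¹ᵁ U : X.Opens), GenNear L tW p.1 := fun p => by
    by_contra hn
    exact p.2.2 ⟨p.1, hn, rfl⟩
  choose V hV hpV hVg using hgen
  refine isGen_of_cover (fun p => V p ⊓ f ⁻¹ᵁ U) (fun p => inf_le_right)
    (fun p hp => Opens.mem_iSup.2 ⟨⟨p, hp⟩, hpV ⟨p, hp⟩, hp⟩) fun p => ?_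
  have := (hVg p).restrict (inf_le_left : V p ⊓ f ⁻¹ᵁ U ≤ V p)
  rw [resM_resM] at this ⊢
  exact this

/-- If `H¹` vanishes on a fibre where the module is trivial, the module has a generator near that fibre. -/
theorem exists_gen_of_subsingleton (s : S) (hs : PicM.pull (f.fiberι s) (PicM.of hL) = 1)
    (h1 : Subsingleton (CohIII.fiberH f (Coh.structureModule X) s 1)) :
    ∃ U : S.Opens, s ∈ U ∧ ∃ t : Γ(L, f ⁻¹ᵁ U), IsGen L _ t := by
  haveI := H8Coh.FibreAmple.isQCoh_of_invertible hL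
  have hfl : FlatMod.IsFlatOver f L := CohBC.isFlatOver_of_isFinLocFree f fun x =>
    let ⟨U, hx, e⟩ := PicLib.isFinLocFreeOfRank_one hL x
    ⟨U, 1, hx, e⟩
  have hs' := hs
  rw [PicM.pull_of, PicM.of_eq_one_iff] at hs'
  obtain ⟨e⟩ := hs'
  have h1' : Subsingleton (CohIII.fiberH f L s 1) :=
    ((Groth.Agent.EulerLib.HHBaseEquiv (X := f.fiber s) (S.residueField s) (CohIII.fiberMod f L s) 1).trans
      ((isoA _ (e ≪≫ (pullOne (f.fiberι s)).symm) ⊤ 1).trans
        (Groth.Agent.EulerLib.HHBaseEquiv (X := f.fiber s) (S.residueField s)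
          (CohIII.fiberMod f (Coh.structureModule X) s) 1).symm)).toEquiv.subsingleton
  obtain ⟨C, hsC, -, -, hC0, -⟩ := CohExch.exists_zero_chart (H8Coh.FibreAmple.isFP_of_invertible hL) hfl
    (V := ⊤) (s := s) trivial 1 h1'
  exact exists_gen_of_chart f hy hL s hs C hsC (by simpa using hC0)

omit hy in
/-- With integral fibres, the locus of trivial fibres is closed. -/
theorem isClosed_trivial_locus (hint : ∀ s : S, IsIntegral (f.fiber s)) :
    IsClosed {s : S | PicM.pull (f.fiberι s) (PicM.of hL) = 1} := by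
  obtain ⟨b, hb⟩ := PicM.exists_mul_eq_one (PicM.of hL)
  obtain ⟨M, hM, rfl⟩ := PicM.exists_eq_of b
  have hc : ∀ {N : X.Modules}, PicF.IsInvertible N →
      IsClosed {s : S | ¬ Subsingleton (CohIII.fiberH f N s 0)} := fun {N} hN => by
    haveI := H8Coh.FibreAmple.isQCoh_of_invertible hN
    exact (CohExch.isOpen_fibre_vanishing (H8Coh.FibreAmple.isFP_of_invertible hN)
      (CohBC.isFlatOver_of_isFinLocFree f fun x =>
        let ⟨U, hx, e⟩ := PicLib.isFinLocFreeOfRank_one hN x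
        ⟨U, 1, hx, e⟩) 0).isClosed_compl
  have hne : ∀ (s : S) {N : X.Modules} {hN : PicF.IsInvertible N}, PicM.pull (f.fiberι s) (PicM.of hN) = 1 →
      ¬ Subsingleton (CohIII.fiberH f N s 0) := fun s {N} {hN} h hs => by
    haveI := hint s
    rw [PicM.pull_of] at h
    obtain ⟨a, ha⟩ := exists_ne_zero_of_eq_one h
    exact ha ((h0 _).symm.injective (hs.elim _ _))
  have hiff : {s : S | PicM.pull (f.fiberι s) (PicM.of hL) = 1} =
      {s | ¬ Subsingleton (CohIII.fiberH f L s 0)} ∩ {s | ¬ Subsingleton (CohIII.fiberH f M s 0)} := by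
    refine Set.ext fun s => ⟨fun hs => ⟨hne s hs, hne s (hN := hM) ?_⟩, fun ⟨h₁, h₂⟩ => ?_⟩
    · have := congrArg (PicM.pull (f.fiberι s)) hb
      rwa [map_mul, map_one, show PicM.pull (f.fiberι s) (PicM.of hL) = 1 from hs, one_mul] at this
    · haveI := hint s
      haveI : IsProper (f.fiberToSpecResidueField s) :=
        MorphismProperty.pullback_snd (P := @IsProper) _ _ inferInstance
      have hsec : ∀ {N : X.Modules}, ¬ Subsingleton (CohIII.fiberH f N s 0) →
          ∃ a : Γ(CohIII.fiberMod f N s, ⊤), a ≠ 0 := fun {N} hN => by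
        by_contra hc
        push Not at hc
        haveI := subsingleton_of_forall_eq (0 : Γ(CohIII.fiberMod f N s, ⊤)) hc
        exact hN (h0 (CohIII.fiberMod f N s)).toEquiv.subsingleton
      obtain ⟨a, ha⟩ := hsec h₁
      obtain ⟨c, hc⟩ := hsec h₂
      show PicM.pull (f.fiberι s) (PicM.of hL) = 1
      rw [PicM.pull_of]
      refine eq_one_of_sections (K := S.residueField s) (f.fiberToSpecResidueField s) _
        (PicLoc.isInvertible_pullback (f.fiberι s) hM) ?_ ha hc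
      have := congrArg (PicM.pull (f.fiberι s)) hb
      rwa [map_mul, map_one, PicM.pull_of, PicM.pull_of] at this
  rw [hiff]
  exact (hc hL).inter (hc hM)

omit hy in
/-- A generator over the inverse image of an open makes the fibres over it trivial. -/
theorem trivial_of_gen {U : S.Opens} {t : Γ(L, f ⁻¹ᵁ U)} (ht : IsGen L _ t) {s : S} (hs : s ∈ U) :
    PicM.pull (f.fiberι s) (PicM.of hL) = 1 := by
  rw [PicM.pull_of]
  have hU : f.fiberι s ⁻¹ᵁ (f ⁻¹ᵁ U) = ⊤ := top_le_iff.1 fun q _ => by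
    show f (f.fiberι s q) ∈ U
    rw [show f (f.fiberι s q) = s from (f.range_fiberι s).le ⟨q, rfl⟩]
    exact hs
  exact eq_one_of_isGen_top _ (t := resM _ hU.ge (pullSec (f.fiberι s) t))
    ((isGen_pullSec (f.fiberι s) ht hL).restrict hU.ge)

/-- Over a connected base, with no `H¹` on the fibres, a module trivial on one fibre comes from the base. -/
theorem exists_eq_pull [PreconnectedSpace S] (hint : ∀ s : S, IsIntegral (f.fiber s))
    (h1 : ∀ s : S, Subsingleton (CohIII.fiberH f (Coh.structureModule X) s 1)) (s₀ : S)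
    (hs₀ : PicM.pull (f.fiberι s₀) (PicM.of hL) = 1) : ∃ b : PicM S, PicM.pull f b = PicM.of hL := by
  have hopen : IsOpen {s : S | PicM.pull (f.fiberι s) (PicM.of hL) = 1} :=
    isOpen_iff_forall_mem_open.2 fun s hs => by
      obtain ⟨U, hsU, t, ht⟩ := exists_gen_of_subsingleton f hy hL s hs (h1 s)
      exact ⟨U, fun s' hs' => trivial_of_gen f hL ht hs', U.2, hsU⟩
  have hall : ∀ s : S, PicM.pull (f.fiberι s) (PicM.of hL) = 1 := fun s => by
    have := IsClopen.eq_univ ⟨isClosed_trivial_locus f hL hint, hopen⟩ ⟨s₀, hs₀⟩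
    exact this.ge (Set.mem_univ s)
  obtain ⟨hN, hc⟩ := isInvertible_push_and_isIso_counit (f := f) (L := L) fun s => by
    obtain ⟨U, hsU, t, ht⟩ := exists_gen_of_subsingleton f hy hL s (hall s) (h1 s)
    exact ⟨U, hsU, fun V _ => isIso_app_of_scalar f hy V, t, ht⟩
  refine ⟨PicM.of hN, ?_⟩
  rw [PicM.pull_of]
  exact (PicM.of_eq_iff _ hL).2 ⟨asIso ((Scheme.Modules.pullbackPushforwardAdjunction f).counit.app L)⟩

omit hy hL in
/-- Pullback is injective on classes when the functions descend. -/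
theorem pull_injective (hf : ∀ U : S.Opens, Function.Bijective (f.app U)) : Function.Injective (PicM.pull f) := by
  intro a b h
  obtain ⟨A, hA, rfl⟩ := PicM.exists_eq_of a
  obtain ⟨B, hB, rfl⟩ := PicM.exists_eq_of b
  rw [PicM.pull_of, PicM.pull_of, PicM.of_eq_iff] at h
  obtain ⟨e⟩ := h
  let adj := Scheme.Modules.pullbackPushforwardAdjunction f
  have key : ∀ (M : S.Modules), PicF.IsInvertible M → IsIso (adj.unit.app M) := fun M hM =>
    Scheme.Modules.Hom.isIso_iff_isIso_app.2 fun U =>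
      (ConcreteCategory.isIso_iff_bijective _).2 (bijective_pullSec f hf hM U)
  haveI := key A hA
  haveI := key B hB
  exact (PicM.of_eq_iff hA hB).2
    ⟨asIso (adj.unit.app A) ≪≫ (Scheme.Modules.pushforward f).mapIso e ≪≫ (asIso (adj.unit.app B)).symm⟩

end Groth.Agent.FlatMor12.Cube
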