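import Groth.Agent.FlatMor12.Cube.FibreVanish
import Groth.Agent.FlatCx12.ClosedBC
import Groth.Agent.DCat.FlatPull
import Groth.Agent.Quot8.FlatSES
import Groth.Agent.CohExch.ChartMain
import Groth.Agent.CohExch.Model
import Groth.Agent.Coherent.CohBC.FibreInvariance
import Groth.Agent.EGA43.FPKernel
import Groth.Agent.EGA43.FibDepth.Unit
import Groth.Agent.EGA43.Limit.Basic
import Groth.Agent.Clifford24.SmoothFamilyO
import Groth.Agent.H8Coh.FibreAmple
import Groth.Agent.VarietyLib.HilbStratumLocal
import Groth.Agent.S1178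
import Groth.Agent.CubeLib.GlobalSec
import Groth.Prelude.Def_ega3

/-!
# The kernel sheaf of the cube and the fibre over a point
-/

set_option autoImplicit false
set_option linter.style.haveILetI false
set_option backward.isDefEq.respectTransparency.types false
set_option maxHeartbeats 1000000

universe u

open CategoryTheory CategoryTheory.Limits MonoidalCategory CartesianMonoidalCategory AlgebraicGeometry Opposite
  TopologicalSpace
open Groth.Agent.Coherent Groth.Agent.PicLib Groth.Agent.CubeLib

namespace Groth.Agent.FlatMor12.Cube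

/-- The pullback of the structure module. -/
noncomputable def pullOne {P X : Scheme.{u}} (p : P ⟶ X) :
    (Scheme.Modules.pullback p).obj (Coh.structureModule X) ≅ Coh.structureModule P :=
  haveI : IsIso (unitDesc ((Scheme.Modules.pullback p).obj (Coh.structureModule X))
      (pullSec p (AmpleLib.oneSec (⊤ : X.Opens)))) := isIso_of_isGen _ (by
    rw [unitVal_unitDesc, resM_self]
    exact isGen_pullSec p (AmpleLib.isGen_oneSec ⊤) AmpleLib.isInvertible_structureModule)
  (asIso (unitDesc _ (pullSec p (AmpleLib.oneSec (⊤ : X.Opens))))).symm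

variable {X Y S : Scheme.{u}} (f : X ⟶ S) (g : Y ⟶ S)

/-- The projection to the base. -/
noncomputable abbrev toS : pullback f g ⟶ S := pullback.fst f g ≫ f

/-- A fibre as a scheme over the residue field. -/
noncomputable abbrev fibOver (s : S) : Over (Spec (CommRingCat.of (S.residueField s))) :=
  Over.mk (show f.fiber s ⟶ Spec (CommRingCat.of (S.residueField s)) from f.fiberToSpecResidueField s)

/-- The point of a fibre given by a section. -/
noncomputable def fibPt {σ : S ⟶ X} (hσ : σ ≫ f = 𝟙 S) (s : S) :
    𝟙_ (Over (Spec (CommRingCat.of (S.residueField s)))) ⟶ fibOver f s :=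
  Over.homMk (pullback.lift (S.fromSpecResidueField s ≫ σ) (𝟙 _)
      (by rw [Category.assoc, hσ, Category.comp_id, Category.id_comp]))
    (by
      show pullback.lift _ _ _ ≫ pullback.snd f (S.fromSpecResidueField s) = 𝟙 _
      exact pullback.lift_snd _ _ _)

theorem fibPt_fiberι {σ : S ⟶ X} (hσ : σ ≫ f = 𝟙 S) (s : S) :
    (fibPt f hσ s).left ≫ f.fiberι s = S.fromSpecResidueField s ≫ σ :=
  pullback.lift_fst _ _ _

/-- The product of the fibres, mapped to the product. -/
noncomputable def prodι (s : S) : (fibOver f s ⊗ fibOver g s).left ⟶ pullback f g :=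
  pullback.lift ((fst (fibOver f s) (fibOver g s)).left ≫ f.fiberι s)
    ((snd (fibOver f s) (fibOver g s)).left ≫ g.fiberι s)
    (by
      rw [Category.assoc, Category.assoc, f.fiber_fac, g.fiber_fac]
      exact ((Category.assoc _ _ _).symm.trans ((Over.w (fst (fibOver f s) (fibOver g s)) =≫ _).trans
        ((Over.w (snd (fibOver f s) (fibOver g s))) =≫ _).symm)).trans (Category.assoc _ _ _))

theorem prodι_fst (s : S) :
    prodι f g s ≫ pullback.fst f g = (fst (fibOver f s) (fibOver g s)).left ≫ f.fiberι s :=
  pullback.lift_fst _ _ _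

theorem prodι_snd (s : S) :
    prodι f g s ≫ pullback.snd f g = (snd (fibOver f s) (fibOver g s)).left ≫ g.fiberι s :=
  pullback.lift_snd _ _ _

theorem isPullback_prodι_fst (s : S) :
    IsPullback (fst (fibOver f s) (fibOver g s)).left (prodι f g s) (f.fiberι s) (pullback.fst f g) := by
  have h1 : IsPullback ((snd (fibOver f s) (fibOver g s)).left ≫ g.fiberι s)
      (fst (fibOver f s) (fibOver g s)).left g (f.fiberι s ≫ f) := by
    rw [f.fiber_fac]
    exact (((IsPullback.of_hasPullback (fibOver f s).hom (fibOver g s).hom).flip).paste_horiz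
      (IsPullback.of_hasPullback g (S.fromSpecResidueField s)))
  exact (IsPullback.of_bot (by rw [← prodι_snd] at h1; exact h1.flip) (prodι_fst f g s).symm
    (IsPullback.of_hasPullback f g)).flip.flip

theorem isPullback_prodι (s : S) :
    IsPullback (prodι f g s) (fibOver f s ⊗ fibOver g s).hom (toS f g) (S.fromSpecResidueField s) := by
  have h := (isPullback_prodι_fst f g s).flip.paste_vert (IsPullback.of_hasPullback f (S.fromSpecResidueField s))
  have key : ∀ φ : (fibOver f s ⊗ fibOver g s).left ⟶ Spec (CommRingCat.of (S.residueField s)),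
      φ = (fst (fibOver f s) (fibOver g s)).left ≫ f.fiberToSpecResidueField s →
      IsPullback (prodι f g s) φ (toS f g) (S.fromSpecResidueField s) := by
    rintro φ rfl
    exact h
  exact key _ (Over.w (fst (fibOver f s) (fibOver g s))).symm

theorem isPullback_prodι_snd (s : S) :
    IsPullback (snd (fibOver f s) (fibOver g s)).left (prodι f g s) (g.fiberι s) (pullback.snd f g) := by
  have h2 : (prodι f g s ≫ pullback.fst f g) ≫ f = ((snd (fibOver f s) (fibOver g s)).left ≫ g.fiberι s) ≫ g := by
    rw [← prodι_snd, Category.assoc, Category.assoc, pullback.condition]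
  have h1 : IsPullback ((fst (fibOver f s) (fibOver g s)).left ≫ f.fiberι s)
      (snd (fibOver f s) (fibOver g s)).left f (g.fiberι s ≫ g) := by
    rw [g.fiber_fac]
    exact (IsPullback.of_hasPullback (fibOver f s).hom (fibOver g s).hom).paste_horiz
      (IsPullback.of_hasPullback f (S.fromSpecResidueField s))
  exact IsPullback.of_bot (by rw [← prodι_fst] at h1; exact h1.flip) (prodι_snd f g s).symm
    (IsPullback.of_hasPullback f g).flip

theorem toUnit_left_eq {k : Type u} [Field k] (A : Over (Spec (CommRingCat.of k))) : (toUnit A).left = A.hom :=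
  (Category.comp_id _).symm.trans (Over.w (toUnit A))

variable {f g} {σ : S ⟶ X} {τ : S ⟶ Y} {u : X ⟶ pullback f g} {v : Y ⟶ pullback f g}

theorem isPullback_axis_u (hτ : τ ≫ g = 𝟙 S) (hu1 : u ≫ pullback.fst f g = 𝟙 X)
    (hu2 : u ≫ pullback.snd f g = f ≫ τ) (s : S) :
    IsPullback (f.fiberι s) (lift (𝟙 (fibOver f s)) (toUnit (fibOver f s) ≫ fibPt g hτ s)).left u (prodι f g s) := by
  let i := (lift (𝟙 (fibOver f s)) (toUnit (fibOver f s) ≫ fibPt g hτ s)).left
  have e1 : i ≫ (fst (fibOver f s) (fibOver g s)).left = 𝟙 _ := by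
    rw [← Over.comp_left, lift_fst]
    rfl
  have e2 : i ≫ (snd (fibOver f s) (fibOver g s)).left =
      f.fiberToSpecResidueField s ≫ (fibPt g hτ s).left := by
    rw [← Over.comp_left, lift_snd, Over.comp_left, toUnit_left_eq]
    rfl
  refine IsPullback.of_bot (v₂₁ := (fst (fibOver f s) (fibOver g s)).left) ?_ ?_ (isPullback_prodι_fst f g s).flip
  · rw [e1, hu1]
    exact IsPullback.id_vert _
  · refine (pullback.hom_ext ?_ ?_).symm
    · rw [Category.assoc, prodι_fst, ← Category.assoc, e1, Category.assoc, hu1]
      exact (Category.id_comp _).trans (Category.comp_id _).symm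
    · rw [Category.assoc, prodι_snd, ← Category.assoc, e2, Category.assoc, fibPt_fiberι, Category.assoc, hu2,
        ← Category.assoc, ← Category.assoc, f.fiber_fac]

theorem isPullback_axis_v (hσ : σ ≫ f = 𝟙 S) (hv1 : v ≫ pullback.fst f g = g ≫ σ)
    (hv2 : v ≫ pullback.snd f g = 𝟙 Y) (s : S) :
    IsPullback (g.fiberι s) (lift (toUnit (fibOver g s) ≫ fibPt f hσ s) (𝟙 (fibOver g s))).left v (prodι f g s) := by
  let i := (lift (toUnit (fibOver g s) ≫ fibPt f hσ s) (𝟙 (fibOver g s))).left
  have e2 : i ≫ (snd (fibOver f s) (fibOver g s)).left = 𝟙 _ := by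
    rw [← Over.comp_left, lift_snd]
    rfl
  have e1 : i ≫ (fst (fibOver f s) (fibOver g s)).left =
      g.fiberToSpecResidueField s ≫ (fibPt f hσ s).left := by
    rw [← Over.comp_left, lift_fst, Over.comp_left, toUnit_left_eq]
    rfl
  refine IsPullback.of_bot (v₂₁ := (snd (fibOver f s) (fibOver g s)).left) ?_ ?_ (isPullback_prodι_snd f g s).flip
  · rw [e2, hv2]
    exact IsPullback.id_vert _
  · refine (pullback.hom_ext ?_ ?_).symm
    · rw [Category.assoc, prodι_fst, ← Category.assoc, e1, Category.assoc, fibPt_fiberι, Category.assoc, hv1,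
        ← Category.assoc, ← Category.assoc, g.fiber_fac]
    · rw [Category.assoc, prodι_snd, ← Category.assoc, e2, Category.assoc, hv2]
      exact (Category.id_comp _).trans (Category.comp_id _).symm

theorem isPullback_fibPt (hτ : τ ≫ g = 𝟙 S) (s : S) :
    IsPullback (S.fromSpecResidueField s) (fibPt g hτ s).left τ (g.fiberι s) := by
  refine IsPullback.of_bot (v₂₁ := g.fiberToSpecResidueField s) ?_ (fibPt_fiberι g hτ s).symm
    (IsPullback.of_hasPullback g (S.fromSpecResidueField s))
  rw [hτ, show (fibPt g hτ s).left ≫ g.fiberToSpecResidueField s = 𝟙 _ from Over.w (fibPt g hτ s)]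
  exact IsPullback.id_vert _

end Groth.Agent.FlatMor12.Cube
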