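import Groth.Agent.CubeLib.Deform
import Groth.Agent.H8Coh.CechCocycle
import Groth.Prelude.Def_ClSub2

/-!
# A class in `H¹(X × Y, O)` killed on both axes vanishes
-/

set_option autoImplicit false
set_option linter.style.haveILetI false
set_option backward.isDefEq.respectTransparency.types false
set_option maxHeartbeats 1000000

universe u

open CategoryTheory CategoryTheory.Limits MonoidalCategory CartesianMonoidalCategory AlgebraicGeometry Opposite
  TopologicalSpace TensorProduct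
open Groth.Agent.Coherent Groth.Agent.Coherent.CohBC Groth.Agent.PicLib Groth.Agent.CubeLib
open Groth.Agent.H8Coh.CechCocycle

namespace Groth.Agent.FlatMor12.Cube

/-- A cycle with zero class is a boundary, and conversely. -/
theorem homologyπ_eq_zero_iff {A : Type u} [CommRing A] (C : CochainComplex (ModuleCat.{u} A) ℕ)
    (c : C.cycles 1) : C.homologyπ 1 c = 0 ↔ ∃ y : C.X 0, C.d 0 1 y = C.iCycles 1 c := by
  constructor
  · intro h
    let S := ShortComplex.mk (C.toCycles 0 1) (C.homologyπ 1) (by simp)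
    have hS : S.Exact := ShortComplex.exact_of_g_is_cokernel _ (C.homologyIsCokernel 0 1 (by simp))
    obtain ⟨y, hy⟩ := (ShortComplex.moduleCat_exact_iff S).1 hS c h
    exact ⟨y, by rw [← hy]; exact (ConcreteCategory.congr_hom (C.toCycles_i 0 1) y).symm⟩
  · rintro ⟨y, hy⟩
    have : c = C.toCycles 0 1 y := (ModuleCat.mono_iff_injective (C.iCycles 1)).1 inferInstance
      (hy.symm.trans (ConcreteCategory.congr_hom (C.toCycles_i 0 1) y).symm)
    rw [this]
    exact ConcreteCategory.congr_hom (C.toCycles_comp_homologyπ 0 1) y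

variable {k : Type u} [Field k] (X Y : Over (Spec (CommRingCat.of k)))

/-- The structure map of a product. -/
noncomputable instance prodOver : (X ⊗ Y).left.Over (Spec (CommRingCat.of k)) := ⟨(X ⊗ Y).hom⟩

variable {X Y}

/-- Pull back of functions to the first slice. -/
theorem appLE_axis_boxMap (x₀ : 𝟙_ (Over (Spec (CommRingCat.of k))) ⟶ X) (U : X.left.Opens) (W : Y.left.Opens)
    (hx : ⊤ ≤ x₀.left ⁻¹ᵁ U) (ev : Γ(X.left, U) →ₗ[k] k) (hev : ∀ r, appLEₐ x₀ U ⊤ hx r = algebraMap k _ (ev r))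
    (h : W ≤ (lift (toUnit Y ≫ x₀) (𝟙 Y)).left ⁻¹ᵁ box U W) (t : Γ(X.left, U) ⊗[k] Γ(Y.left, W)) :
    appLEₐ (lift (toUnit Y ≫ x₀) (𝟙 Y)) (box U W) W h (boxMap U W t) =
      TensorProduct.lid k Γ(Y.left, W) (ev.rTensor _ t) := by
  rw [boxMap_natural]
  induction t using TensorProduct.induction_on with
  | zero => simp
  | add a b ha hb => simp only [map_add, ha, hb]
  | tmul a b =>
    rw [Algebra.TensorProduct.productMap_apply_tmul, LinearMap.rTensor_tmul, TensorProduct.lid_tmul,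
      Algebra.smul_def]
    congr 1
    · have e : lift (toUnit Y ≫ x₀) (𝟙 Y) ≫ fst X Y = toUnit Y ≫ x₀ := by simp
      rw [show appLEₐ (lift (toUnit Y ≫ x₀) (𝟙 Y) ≫ fst X Y) U W (fun z hz => (h hz).1) a =
        appLEₐ (toUnit Y ≫ x₀) U W (fun z _ => hx (Set.mem_univ ((toUnit Y).left z))) a by congr 2]
      rw [← appLEₐ_comp (toUnit Y) x₀ U ⊤ W hx le_top, hev, AlgHom.commutes]
    · rw [show appLEₐ (lift (toUnit Y ≫ x₀) (𝟙 Y) ≫ snd X Y) W W (fun z hz => (h hz).2) b =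
        appLEₐ (𝟙 Y) W W le_rfl b by congr 2; simp]
      exact resₐ_self le_rfl b

/-- Pull back of functions to the second slice. -/
theorem appLE_axis_boxMap' (y₀ : 𝟙_ (Over (Spec (CommRingCat.of k))) ⟶ Y) (U : X.left.Opens) (W : Y.left.Opens)
    (hy : ⊤ ≤ y₀.left ⁻¹ᵁ W) (ev : Γ(Y.left, W) →ₗ[k] k) (hev : ∀ r, appLEₐ y₀ W ⊤ hy r = algebraMap k _ (ev r))
    (h : U ≤ (lift (𝟙 X) (toUnit X ≫ y₀)).left ⁻¹ᵁ box U W) (t : Γ(X.left, U) ⊗[k] Γ(Y.left, W)) :
    appLEₐ (lift (𝟙 X) (toUnit X ≫ y₀)) (box U W) U h (boxMap U W t) =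
      TensorProduct.rid k Γ(X.left, U) (ev.lTensor _ t) := by
  rw [boxMap_natural]
  induction t using TensorProduct.induction_on with
  | zero => simp
  | add a b ha hb => simp only [map_add, ha, hb]
  | tmul a b =>
    rw [Algebra.TensorProduct.productMap_apply_tmul, LinearMap.lTensor_tmul, TensorProduct.rid_tmul,
      Algebra.smul_def, mul_comm (algebraMap k _ (ev b))]
    congr 1
    · rw [show appLEₐ (lift (𝟙 X) (toUnit X ≫ y₀) ≫ fst X Y) U U (fun z hz => (h hz).1) a =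
        appLEₐ (𝟙 X) U U le_rfl a by congr 2; simp]
      exact resₐ_self le_rfl a
    · rw [show appLEₐ (lift (𝟙 X) (toUnit X ≫ y₀) ≫ snd X Y) W U (fun z hz => (h hz).2) b =
        appLEₐ (toUnit X ≫ y₀) W U (fun z _ => hy (Set.mem_univ ((toUnit X).left z))) b by congr 2; simp]
      rw [← appLEₐ_comp (toUnit X) y₀ W ⊤ U hy le_top, hev, AlgHom.commutes]

/-- An affine cover indexed by boxes, and evaluation at points. -/
theorem exists_eval (x₀ : 𝟙_ (Over (Spec (CommRingCat.of k))) ⟶ X) (U : X.left.Opens) (hx : ⊤ ≤ x₀.left ⁻¹ᵁ U) :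
    ∃ ev : Γ(X.left, U) →ₗ[k] k, (∀ r, appLEₐ x₀ U ⊤ hx r = algebraMap k _ (ev r)) ∧
      ∀ c, ev (algebraMap k _ c) = c := by
  have hb : Function.Bijective (algebraMap k Γ((𝟙_ (Over (Spec (CommRingCat.of k)))).left, ⊤)) := by
    have h : CommRingCat.ofHom (algebraMap k Γ((𝟙_ (Over (Spec (CommRingCat.of k)))).left, ⊤)) =
        (Scheme.ΓSpecIso (CommRingCat.of k)).inv := by
      rw [algebraMap_sec]
      erw [Scheme.Hom.appLE_eq_app]
      simp
    have hb := ConcreteCategory.bijective_of_isIso (Scheme.ΓSpecIso (CommRingCat.of k)).inv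
    rw [← h] at hb
    exact hb
  let F := LinearEquiv.ofBijective (Algebra.linearMap k Γ((𝟙_ (Over (Spec (CommRingCat.of k)))).left, ⊤)) hb
  refine ⟨F.symm.toLinearMap ∘ₗ (appLEₐ x₀ U ⊤ hx).toLinearMap, fun r => (F.apply_symm_apply _).symm, fun c => ?_⟩
  show F.symm (appLEₐ x₀ U ⊤ hx (algebraMap k _ c)) = c
  rw [AlgHom.commutes]
  exact F.symm_apply_apply c

variable [IsSeparated X.hom] [IsSeparated Y.hom]

/-- A Čech cocycle on boxes which is a coboundary on both axes is a coboundary. -/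
theorem exists_primitive {ιX ιY : Type u} [Finite ιX] [Finite ιY] (U : ιX → X.left.Opens) (W : ιY → Y.left.Opens)
    (hUa : ∀ a, IsAffineOpen (U a)) (hWa : ∀ b, IsAffineOpen (W b)) (hU : ⊤ ≤ iSup U) (hW : ⊤ ≤ iSup W)
    (hX : Function.Bijective (algebraMap k Γ(X.left, ⊤))) (hY : Function.Bijective (algebraMap k Γ(Y.left, ⊤)))
    (x₀ : 𝟙_ (Over (Spec (CommRingCat.of k))) ⟶ X) (a₀ : ιX) (hx₀ : ⊤ ≤ x₀.left ⁻¹ᵁ U a₀)
    (y₀ : 𝟙_ (Over (Spec (CommRingCat.of k))) ⟶ Y) (b₀ : ιY) (hy₀ : ⊤ ≤ y₀.left ⁻¹ᵁ W b₀)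
    (c : ∀ s t : ιX × ιY, Γ((X ⊗ Y).left, box (U s.1) (W s.2) ⊓ box (U t.1) (W t.2)))
    (hc : H8Coh.DualThickening.IsCocycle (fun s : ιX × ιY => box (U s.1) (W s.2)) c)
    (hyax : ∃ g : ∀ b, Γ(Y.left, W b), ∀ (b b' : ιY) (V : Y.left.Opens) (h : V ≤ W b) (h' : V ≤ W b')
      (hV : V ≤ (lift (toUnit Y ≫ x₀) (𝟙 Y)).left ⁻¹ᵁ (box (U a₀) (W b) ⊓ box (U a₀) (W b'))),
      appLEₐ (lift (toUnit Y ≫ x₀) (𝟙 Y)) _ V hV (c (a₀, b) (a₀, b')) = resₐ h' (g b') - resₐ h (g b))
    (hxax : ∃ g : ∀ a, Γ(X.left, U a), ∀ (a a' : ιX) (V : X.left.Opens) (h : V ≤ U a) (h' : V ≤ U a')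
      (hV : V ≤ (lift (𝟙 X) (toUnit X ≫ y₀)).left ⁻¹ᵁ (box (U a) (W b₀) ⊓ box (U a') (W b₀))),
      appLEₐ (lift (𝟙 X) (toUnit X ≫ y₀)) _ V hV (c (a, b₀) (a', b₀)) = resₐ h' (g a') - resₐ h (g a)) :
    ∃ β : ∀ s : ιX × ιY, Γ((X ⊗ Y).left, box (U s.1) (W s.2)),
      ∀ s t, c s t = resₐ (X := X ⊗ Y) inf_le_right (β t) - resₐ (X := X ⊗ Y) inf_le_left (β s) := by
  classical
  have hUi : ∀ a a', IsAffineOpen (U a ⊓ U a') := fun a a' => isAffineOpen_inf_sec X (hUa a) (hUa a')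
  have hWi : ∀ b b', IsAffineOpen (W b ⊓ W b') := fun b b' => isAffineOpen_inf_sec Y (hWa b) (hWa b')
  -- the cocycle on smaller boxes
  let C : ∀ (s t : ιX × ιY) (O : (X ⊗ Y).left.Opens), O ≤ box (U s.1) (W s.2) → O ≤ box (U t.1) (W t.2) →
      Γ((X ⊗ Y).left, O) := fun s t O h h' => resₐ (X := X ⊗ Y) (le_inf h h') (c s t)
  have hCres : ∀ s t O h h' O' (hle : O' ≤ O), resₐ (X := X ⊗ Y) hle (C s t O h h') =
      C s t O' (hle.trans h) (hle.trans h') := fun s t O h h' O' hle => resₐ_resₐ _ _ _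
  have hCadd : ∀ s t r O h h' h'', C s r O h h'' = C s t O h h' + C t r O h' h'' := fun s t r O h h' h'' => by
    have e := hc s t r O h h' h''
    simp only [C, resₐ_apply] at e ⊢
    exact (sub_eq_zero.1 (by rw [← neg_eq_zero, ← e]; abel))
  choose p₁ hp₁ using fun (aa : ιX × ιX) (b : ιY) => (bijective_boxMap (hUi aa.1 aa.2) (hWa b)).2
    (C (aa.1, b) (aa.2, b) _ (box_mono inf_le_left le_rfl) (box_mono inf_le_right le_rfl))
  choose q₁ hq₁ using fun (a : ιX) (bb : ιY × ιY) => (bijective_boxMap (hUa a) (hWi bb.1 bb.2)).2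
    (C (a, bb.1) (a, bb.2) _ (box_mono le_rfl inf_le_left) (box_mono le_rfl inf_le_right))
  obtain ⟨p, hp⟩ := (bijective_tensorPi (k := k) (fun aa : ιX × ιX => Γ(X.left, U aa.1 ⊓ U aa.2))
    (fun b => Γ(Y.left, W b))).2 fun s => p₁ s.1 s.2
  obtain ⟨q, hq⟩ := (bijective_tensorPi (k := k) (fun a => Γ(X.left, U a))
    (fun bb : ιY × ιY => Γ(Y.left, W bb.1 ⊓ W bb.2))).2 fun s => q₁ s.1 s.2
  have hp' : ∀ aa b, TensorProduct.map (LinearMap.proj aa) (LinearMap.proj b) p = p₁ aa b :=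
    fun aa b => congrFun hp (aa, b)
  have hq' : ∀ a bb, TensorProduct.map (LinearMap.proj a) (LinearMap.proj bb) q = q₁ a bb :=
    fun a bb => congrFun hq (a, bb)
  -- values of the restricted components
  have keyp : ∀ (aa : ιX × ιX) (b : ιY) (U' : X.left.Opens) (W' : Y.left.Opens) (hu : U' ≤ U aa.1 ⊓ U aa.2)
      (hw : W' ≤ W b), boxMap U' W' (TensorProduct.map ((resₐ hu).toLinearMap ∘ₗ LinearMap.proj aa)
        ((resₐ hw).toLinearMap ∘ₗ LinearMap.proj b) p) =
        C (aa.1, b) (aa.2, b) (box U' W') (box_mono (hu.trans inf_le_left) hw) (box_mono (hu.trans inf_le_right) hw) := by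
    intro aa b U' W' hu hw
    rw [TensorProduct.map_comp, LinearMap.comp_apply, hp']
    refine Eq.trans ?_ ((congrArg (resₐ (X := X ⊗ Y) (box_mono hu hw)) (hp₁ aa b)).trans (hCres (aa.1, b) (aa.2, b) _ (box_mono inf_le_left le_rfl) (box_mono inf_le_right le_rfl) _ _))
    rw [boxMap_res hu hw]
    rfl
  have keyq : ∀ (a : ιX) (bb : ιY × ιY) (U' : X.left.Opens) (W' : Y.left.Opens) (hu : U' ≤ U a)
      (hw : W' ≤ W bb.1 ⊓ W bb.2), boxMap U' W' (TensorProduct.map ((resₐ hu).toLinearMap ∘ₗ LinearMap.proj a)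
        ((resₐ hw).toLinearMap ∘ₗ LinearMap.proj bb) q) =
        C (a, bb.1) (a, bb.2) (box U' W') (box_mono hu (hw.trans inf_le_left)) (box_mono hu (hw.trans inf_le_right)) := by
    intro a bb U' W' hu hw
    rw [TensorProduct.map_comp, LinearMap.comp_apply, hq']
    refine Eq.trans ?_ ((congrArg (resₐ (X := X ⊗ Y) (box_mono hu hw)) (hq₁ a bb)).trans (hCres (a, bb.1) (a, bb.2) _ (box_mono le_rfl inf_le_left) (box_mono le_rfl inf_le_right) _ _))
    rw [boxMap_res hu hw]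
    rfl
  have idX : ∀ a, (resₐ (le_refl (U a))).toLinearMap ∘ₗ (LinearMap.proj a : cech0 U →ₗ[k] _) = LinearMap.proj a :=
    fun a => LinearMap.ext fun z => (resₐ_self le_rfl _)
  have idY : ∀ b, (resₐ (le_refl (W b))).toLinearMap ∘ₗ (LinearMap.proj b : cech0 W →ₗ[k] _) = LinearMap.proj b :=
    fun b => LinearMap.ext fun z => (resₐ_self le_rfl _)
  -- the cocycle identities
  have hdp : (cechD' U).rTensor _ p = 0 := by
    refine (bijective_tensorPi (k := k) (fun t : ιX × ιX × ιX => Γ(X.left, U t.1 ⊓ U t.2.1 ⊓ U t.2.2))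
      (fun b => Γ(Y.left, W b))).1 (funext fun s => ?_)
    obtain ⟨⟨a, a', a''⟩, b⟩ := s
    simp only [map_zero]
    refine (bijective_boxMap (isAffineOpen_inf_sec X (hUi a a') (hUa a'')) (hWa b)).1 ?_
    rw [map_zero, ← LinearMap.comp_apply (TensorProduct.map _ _), LinearMap.map_comp_rTensor, ← idY b]
    simp only [cechD', LinearMap.proj_pi, TensorProduct.map_add_left, LinearMap.add_apply, map_sub_left_apply,
      map_add, map_sub]
    rw [keyp (a', a''), keyp (a, a''), keyp (a, a'),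
      hCadd (a, b) (a', b) (a'', b) (box (U a ⊓ U a' ⊓ U a'') (W b)) (box_mono (inf_le_left.trans inf_le_left) le_rfl)
      (box_mono (inf_le_left.trans inf_le_right) le_rfl) (box_mono inf_le_right le_rfl)]
    ring
  have hpq : (cechD W).lTensor _ p = (cechD U).rTensor _ q := by
    refine (bijective_tensorPi (k := k) (fun aa : ιX × ιX => Γ(X.left, U aa.1 ⊓ U aa.2))
      (fun bb : ιY × ιY => Γ(Y.left, W bb.1 ⊓ W bb.2))).1 (funext fun s => ?_)
    obtain ⟨⟨a, a'⟩, b, b'⟩ := s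
    refine (bijective_boxMap (hUi a a') (hWi b b')).1 ?_
    simp only
    rw [← LinearMap.comp_apply (TensorProduct.map _ _), ← LinearMap.comp_apply (TensorProduct.map _ _),
      LinearMap.map_comp_lTensor, LinearMap.map_comp_rTensor]
    simp only [cechD, LinearMap.proj_pi]
    rw [map_sub_left_apply, map_sub_right_apply, map_sub, map_sub]
    have hi : (LinearMap.proj (a, a') : cech1 U →ₗ[k] _) = (resₐ le_rfl).toLinearMap ∘ₗ LinearMap.proj (a, a') :=
      LinearMap.ext fun z => (resₐ_self le_rfl _).symm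
    have hj : (LinearMap.proj (b, b') : cech1 W →ₗ[k] _) = (resₐ le_rfl).toLinearMap ∘ₗ LinearMap.proj (b, b') :=
      LinearMap.ext fun z => (resₐ_self le_rfl _).symm
    rw [hi, hj, keyp (a, a') b', keyp (a, a') b, keyq a' (b, b'), keyq a (b, b')]
    have e1 := hCadd (a, b) (a', b) (a', b') (box (U a ⊓ U a') (W b ⊓ W b')) (box_mono inf_le_left inf_le_left)
      (box_mono inf_le_right inf_le_left) (box_mono inf_le_right inf_le_right)
    have e2 := hCadd (a, b) (a, b') (a', b') (box (U a ⊓ U a') (W b ⊓ W b')) (box_mono inf_le_left inf_le_left)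
      (box_mono inf_le_left inf_le_right) (box_mono inf_le_right inf_le_right)
    linear_combination e1 - e2
  obtain ⟨ev, hev, hev1⟩ := exists_eval x₀ (U a₀) hx₀
  obtain ⟨ev', hev', hev1'⟩ := exists_eval y₀ (W b₀) hy₀
  obtain ⟨g, hg⟩ := hyax
  obtain ⟨g', hg'⟩ := hxax
  obtain ⟨w, hwp, hwq⟩ := exists_coboundary_of_axes (cechD U) (cechD' U) (cechD'_comp_cechD U) _
    (exact_cechD U hU hX) (ev ∘ₗ LinearMap.proj a₀) (LinearMap.ext fun r => hev1 r) (cechD W) _
    (exact_cechD W hW hY) (ev' ∘ₗ LinearMap.proj b₀) (LinearMap.ext fun r => hev1' r) p q hdp hpq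
    ⟨g, by
      refine funext fun bb => ?_
      have hle : W bb.1 ⊓ W bb.2 ≤ (lift (toUnit Y ≫ x₀) (𝟙 Y)).left ⁻¹ᵁ box (U a₀) (W bb.1 ⊓ W bb.2) := by
        intro z hz
        have e₁ := congrArg (fun φ : Y ⟶ X => φ.left z) (lift_fst (toUnit Y ≫ x₀) (𝟙 Y))
        have e₂ := congrArg (fun φ : Y ⟶ Y => φ.left z) (lift_snd (toUnit Y ≫ x₀) (𝟙 Y))
        constructor
        · show (fst X Y).left ((lift (toUnit Y ≫ x₀) (𝟙 Y)).left z) ∈ U a₀
          rw [show (fst X Y).left ((lift (toUnit Y ≫ x₀) (𝟙 Y)).left z) = x₀.left ((toUnit Y).left z) from e₁]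
          exact hx₀ (Set.mem_univ _)
        · show (snd X Y).left ((lift (toUnit Y ≫ x₀) (𝟙 Y)).left z) ∈ W bb.1 ⊓ W bb.2
          rw [show (snd X Y).left ((lift (toUnit Y ≫ x₀) (𝟙 Y)).left z) = z from e₂]
          exact hz
      have h1 : TensorProduct.lid k _ (TensorProduct.map (ev ∘ₗ LinearMap.proj a₀) (LinearMap.proj bb) q) =
          LinearMap.proj (R := k) bb (TensorProduct.lid k (cech1 W) ((ev ∘ₗ LinearMap.proj a₀).rTensor _ q)) := by
        generalize q = t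
        induction t using TensorProduct.induction_on with
        | zero => simp
        | add a b ha hb => simp only [map_add, ha, hb]
        | tmul a b => simp
      refine h1.symm.trans ?_
      rw [show TensorProduct.map (ev ∘ₗ LinearMap.proj a₀) (LinearMap.proj bb) q =
        ev.rTensor _ (TensorProduct.map (LinearMap.proj a₀) (LinearMap.proj bb) q) by
          rw [← LinearMap.comp_apply, LinearMap.rTensor_comp_map], hq',
        ← appLE_axis_boxMap x₀ (U a₀) _ hx₀ ev hev hle, hq₁, cechD_apply]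
      refine Eq.trans ?_ (hg bb.1 bb.2 _ inf_le_left inf_le_right
        (fun z hz => ⟨box_mono le_rfl inf_le_left (hle hz), box_mono le_rfl inf_le_right (hle hz)⟩))
      simp only [C, resₐ]
      rw [appLEₐ_comp _ _ _ _ _ _ _ (by exact fun z hz =>
        ⟨box_mono le_rfl inf_le_left (hle hz), box_mono le_rfl inf_le_right (hle hz)⟩)]
      congr 2⟩
    ⟨(TensorProduct.rid k (cech0 U)).symm g', by
      refine (TensorProduct.rid k (cech1 U)).injective (funext fun aa => ?_)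
      have hle : U aa.1 ⊓ U aa.2 ≤ (lift (𝟙 X) (toUnit X ≫ y₀)).left ⁻¹ᵁ box (U aa.1 ⊓ U aa.2) (W b₀) := by
        intro z hz
        have e₁ := congrArg (fun φ : X ⟶ X => φ.left z) (lift_fst (𝟙 X) (toUnit X ≫ y₀))
        have e₂ := congrArg (fun φ : X ⟶ Y => φ.left z) (lift_snd (𝟙 X) (toUnit X ≫ y₀))
        constructor
        · show (fst X Y).left ((lift (𝟙 X) (toUnit X ≫ y₀)).left z) ∈ U aa.1 ⊓ U aa.2
          rw [show (fst X Y).left ((lift (𝟙 X) (toUnit X ≫ y₀)).left z) = z from e₁]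
          exact hz
        · show (snd X Y).left ((lift (𝟙 X) (toUnit X ≫ y₀)).left z) ∈ W b₀
          rw [show (snd X Y).left ((lift (𝟙 X) (toUnit X ≫ y₀)).left z) = y₀.left ((toUnit X).left z) from e₂]
          exact hy₀ (Set.mem_univ _)
      have h1 : TensorProduct.rid k _ (TensorProduct.map (LinearMap.proj aa) (ev' ∘ₗ LinearMap.proj b₀) p) =
          LinearMap.proj (R := k) aa (TensorProduct.rid k (cech1 U) ((ev' ∘ₗ LinearMap.proj b₀).lTensor _ p)) := by
        generalize p = t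
        induction t using TensorProduct.induction_on with
        | zero => simp
        | add a b ha hb => simp only [map_add, ha, hb]
        | tmul a b => simp
      refine h1.symm.trans ?_
      rw [show TensorProduct.map (LinearMap.proj aa) (ev' ∘ₗ LinearMap.proj b₀) p =
        ev'.lTensor _ (TensorProduct.map (LinearMap.proj aa) (LinearMap.proj b₀) p) by
          rw [← LinearMap.comp_apply, LinearMap.lTensor_comp_map], hp',
        ← appLE_axis_boxMap' y₀ _ (W b₀) hy₀ ev' hev' hle, hp₁]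
      rw [show TensorProduct.rid k (cech1 U) ((cechD U).rTensor k ((TensorProduct.rid k (cech0 U)).symm g')) =
        cechD U g' by simp, cechD_apply]
      refine Eq.trans ?_ (hg' aa.1 aa.2 _ inf_le_left inf_le_right
        (fun z hz => ⟨box_mono inf_le_left le_rfl (hle hz), box_mono inf_le_right le_rfl (hle hz)⟩))
      simp only [C, resₐ]
      rw [appLEₐ_comp _ _ _ _ _ _ _ (by exact fun z hz =>
        ⟨box_mono inf_le_left le_rfl (hle hz), box_mono inf_le_right le_rfl (hle hz)⟩)]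
      congr 2⟩
  refine ⟨fun s => boxMap (U s.1) (W s.2) (TensorProduct.map (LinearMap.proj s.1) (LinearMap.proj s.2) w),
    fun s t => ?_⟩
  obtain ⟨a, b⟩ := s
  obtain ⟨a', b'⟩ := t
  let O := box (U a ⊓ U a') (W b ⊓ W b')
  have hO : box (U a) (W b) ⊓ box (U a') (W b') ≤ O := (box_inf _ _ _ _).symm.le
  have hO₁ : O ≤ box (U a) (W b) := box_mono inf_le_left inf_le_left
  have hO₂ : O ≤ box (U a') (W b') := box_mono inf_le_right inf_le_right
  have hO₃ : O ≤ box (U a') (W b) := box_mono inf_le_right inf_le_left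
  have hβ : ∀ (a₁ : ιX) (b₁ : ιY) (hu : U a ⊓ U a' ≤ U a₁) (hw : W b ⊓ W b' ≤ W b₁),
      resₐ (X := X ⊗ Y) (box_mono hu hw) (boxMap (U a₁) (W b₁) (TensorProduct.map (LinearMap.proj a₁) (LinearMap.proj b₁) w)) =
        boxMap (U a ⊓ U a') (W b ⊓ W b') (TensorProduct.map ((resₐ hu).toLinearMap ∘ₗ LinearMap.proj a₁)
          ((resₐ hw).toLinearMap ∘ₗ LinearMap.proj b₁) w) := by
    intro a₁ b₁ hu hw
    rw [boxMap_res hu hw, TensorProduct.map_comp, LinearMap.comp_apply]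
    rfl
  have eP : C (a, b) (a', b) O hO₁ hO₃ =
      boxMap (U a ⊓ U a') (W b ⊓ W b') (TensorProduct.map ((resₐ inf_le_right).toLinearMap ∘ₗ LinearMap.proj a')
        ((resₐ inf_le_left).toLinearMap ∘ₗ LinearMap.proj b) w) -
      boxMap (U a ⊓ U a') (W b ⊓ W b') (TensorProduct.map ((resₐ inf_le_left).toLinearMap ∘ₗ LinearMap.proj a)
        ((resₐ inf_le_left).toLinearMap ∘ₗ LinearMap.proj b) w) := by
    rw [← map_sub, ← map_sub_left_apply,
      ← keyp (a, a') b (U a ⊓ U a') (W b ⊓ W b') le_rfl inf_le_left, ← hwp, ← LinearMap.comp_apply,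
      LinearMap.map_comp_rTensor]
    congr 3
    exact LinearMap.ext fun f => by
      show resₐ le_rfl (cechD U f (a, a')) = _
      rw [resₐ_self]
      rfl
  have eQ : C (a', b) (a', b') O hO₃ hO₂ =
      boxMap (U a ⊓ U a') (W b ⊓ W b') (TensorProduct.map ((resₐ inf_le_right).toLinearMap ∘ₗ LinearMap.proj a')
        ((resₐ inf_le_right).toLinearMap ∘ₗ LinearMap.proj b') w) -
      boxMap (U a ⊓ U a') (W b ⊓ W b') (TensorProduct.map ((resₐ inf_le_right).toLinearMap ∘ₗ LinearMap.proj a')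
        ((resₐ inf_le_left).toLinearMap ∘ₗ LinearMap.proj b) w) := by
    rw [← map_sub, ← map_sub_right_apply,
      ← keyq a' (b, b') (U a ⊓ U a') (W b ⊓ W b') inf_le_right le_rfl, ← hwq, ← LinearMap.comp_apply,
      LinearMap.map_comp_lTensor]
    congr 3
    exact LinearMap.ext fun f => by
      show resₐ le_rfl (cechD W f (b, b')) = _
      rw [resₐ_self]
      rfl
  have := congrArg (resₐ (X := X ⊗ Y) hO) (hCadd (a, b) (a', b) (a', b') O hO₁ hO₃ hO₂)
  rw [hCres (a, b) (a', b') O hO₁ hO₂ _ hO, eP, eQ, ← hβ a' b inf_le_right inf_le_left, ← hβ a b inf_le_left inf_le_left,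
    ← hβ a' b' inf_le_right inf_le_right] at this
  simp only [C, map_sub, map_add, resₐ_resₐ, resₐ_self] at this ⊢
  rw [this]
  ring

/-- A class in `H¹` of the structure sheaf of a product killed on both axes vanishes. -/
theorem eq_zero_of_axes [CompactSpace X.left] [CompactSpace Y.left]
    (hX : Function.Bijective (algebraMap k Γ(X.left, ⊤))) (hY : Function.Bijective (algebraMap k Γ(Y.left, ⊤)))
    (x₀ : 𝟙_ (Over (Spec (CommRingCat.of k))) ⟶ X) (y₀ : 𝟙_ (Over (Spec (CommRingCat.of k))) ⟶ Y)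
    (z : Coh.HH (X ⊗ Y).left (Coh.structureModule (X ⊗ Y).left) 1)
    (h₁ : Sheaf.H.map ((toAbFunctor _).map (ClSub.unitToPush (lift (toUnit Y ≫ x₀) (𝟙 Y)).left)) 1 z = 0)
    (h₂ : Sheaf.H.map ((toAbFunctor _).map (ClSub.unitToPush (lift (𝟙 X) (toUnit X ≫ y₀)).left)) 1 z = 0) :
    z = 0 := by
  classical
  have sX : X.left.IsSeparated := ⟨by rw [← terminal.comp_from X.hom]; infer_instance⟩
  have sY : Y.left.IsSeparated := ⟨by rw [← terminal.comp_from Y.hom]; infer_instance⟩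
  have : IsSeparated (snd X Y).left := MorphismProperty.of_isPullback (P := @IsSeparated)
    (IsPullback.of_hasPullback X.hom Y.hom) (inferInstanceAs (IsSeparated X.hom))
  have : IsSeparated (X ⊗ Y).hom := by
    rw [← Over.w (snd X Y)]
    infer_instance
  have sZ : (X ⊗ Y).left.IsSeparated := ⟨by rw [← terminal.comp_from (X ⊗ Y).hom]; infer_instance⟩
  have : QuasiCompact (snd X Y).left := MorphismProperty.of_isPullback (P := @QuasiCompact)
    (IsPullback.of_hasPullback X.hom Y.hom) (inferInstanceAs (QuasiCompact X.hom))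
  have : CompactSpace (X ⊗ Y).left := QuasiCompact.compactSpace_of_compactSpace (snd X Y).left
  obtain ⟨ιX, _, U, hUa, hUc⟩ := exists_finite_affine_cover X.left
  obtain ⟨ιY, _, W, hWa, hWc⟩ := exists_finite_affine_cover Y.left
  have hU : ⊤ ≤ iSup U := fun s _ => Opens.mem_iSup.2 (hUc s)
  have hW : ⊤ ≤ iSup W := fun s _ => Opens.mem_iSup.2 (hWc s)
  obtain ⟨a₀, ha₀⟩ := hUc (x₀.left (IsLocalRing.closedPoint k))
  obtain ⟨b₀, hb₀⟩ := hWc (y₀.left (IsLocalRing.closedPoint k))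
  have hx₀ : ⊤ ≤ x₀.left ⁻¹ᵁ U a₀ := fun s _ => by
    obtain rfl : s = IsLocalRing.closedPoint k := Subsingleton.elim (α := PrimeSpectrum k) _ _
    exact ha₀
  have hy₀ : ⊤ ≤ y₀.left ⁻¹ᵁ W b₀ := fun s _ => by
    obtain rfl : s = IsLocalRing.closedPoint k := Subsingleton.elim (α := PrimeSpectrum k) _ _
    exact hb₀
  let B : ιX × ιY → (X ⊗ Y).left.Opens := fun s => box (U s.1) (W s.2)
  have hcov : ⨆ s, B s = ⊤ := top_le_iff.1 fun x _ => by
    obtain ⟨a, ha⟩ := hUc ((fst X Y).left x)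
    obtain ⟨b, hb⟩ := hWc ((snd X Y).left x)
    exact Opens.mem_iSup.2 ⟨(a, b), ha, hb⟩
  have hB := PicDef15.isAffineOpen_cinter B fun s => isAffineOpen_box (hUa s.1) (hWa s.2)
  let i₁ := (lift (toUnit Y ≫ x₀) (𝟙 Y)).left
  let i₂ := (lift (𝟙 X) (toUnit X ≫ y₀)).left
  haveI : IsSeparated (fst X Y).left := MorphismProperty.of_isPullback (P := @IsSeparated)
    (IsPullback.of_hasPullback X.hom Y.hom).flip (inferInstanceAs (IsSeparated Y.hom))
  haveI : IsClosedImmersion i₁ := by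
    haveI : IsClosedImmersion (i₁ ≫ (snd X Y).left) := by
      rw [show i₁ ≫ (snd X Y).left = 𝟙 _ by rw [← Over.comp_left, lift_snd]; rfl]
      infer_instance
    exact IsClosedImmersion.of_comp i₁ (snd X Y).left
  haveI : IsClosedImmersion i₂ := by
    haveI : IsClosedImmersion (i₂ ≫ (fst X Y).left) := by
      rw [show i₂ ≫ (fst X Y).left = 𝟙 _ by rw [← Over.comp_left, lift_fst]; rfl]
      infer_instance
    exact IsClosedImmersion.of_comp i₂ (fst X Y).left
  haveI := isQCoh_structureModule (X := Y.left)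
  haveI := isQCoh_structureModule (X := X.left)
  haveI := isQCoh_structureModule (X := (X ⊗ Y).left)
  haveI := isQCoh_push i₁ (Coh.structureModule Y.left)
  haveI := isQCoh_push i₂ (Coh.structureModule X.left)
  let O := Coh.structureModule (X ⊗ Y).left
  let K := cxA k B O
  obtain ⟨v, hv⟩ := (ModuleCat.epi_iff_surjective (K.homologyπ 1)).1 inferInstance (hhCech k B hcov hB O 1 z)
  -- restriction to an axis is a coboundary
  have hax : ∀ {T : Scheme.{u}} (i : T ⟶ (X ⊗ Y).left) [Coh.IsQCoh ((Scheme.Modules.pushforward i).obj (Coh.structureModule T))],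
      Sheaf.H.map ((toAbFunctor _).map (ClSub.unitToPush i)) 1 z = 0 →
      ∃ y : ∀ a : Fin 1 → ιX × ιY, Γ(T, i ⁻¹ᵁ cinter B a), ∀ a : Fin 2 → ιX × ιY,
        i.app (cinter B a) (K.iCycles 1 v a) = ∑ l : Fin 2, (-1 : ℤ) ^ (l : ℕ) •
          PicLib.res (i.preimage_mono (cinter_face B a l)) (y (a ∘ l.succAbove)) := by
    intro T i _ h
    let φ := cxMapA k B (ClSub.unitToPush i)
    have h' := hhCech_naturality k B hcov hB (ClSub.unitToPush i) 1 z
    rw [h, map_zero, ← hv] at h'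
    have h'' : (cxA k B _).homologyπ 1 (HomologicalComplex.cyclesMap φ 1 v) = 0 := by
      rw [h']
      exact (ConcreteCategory.congr_hom (HomologicalComplex.homologyπ_naturality φ 1) v).symm
    obtain ⟨y, hy⟩ := (homologyπ_eq_zero_iff _ _).1 h''
    rw [show (cxA k B _).iCycles 1 (HomologicalComplex.cyclesMap φ 1 v) = φ.f 1 (K.iCycles 1 v) from
      ConcreteCategory.congr_hom (HomologicalComplex.cyclesMap_i φ 1) v, cxA_d] at hy
    exact ⟨y, fun a => (congrFun hy a).symm⟩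
  let c := cc (K.iCycles 1 v)
  have hc : H8Coh.DualThickening.IsCocycle B c := isCocycle_cc (A := k) (by
    have := ConcreteCategory.congr_hom (K.iCycles_d 1 2) v
    rw [cxA_d] at this
    exact this)
  obtain ⟨yy, hyy⟩ := hax i₁ h₁
  obtain ⟨xx, hxx⟩ := hax i₂ h₂
  have hW₁ : ∀ b, W b ≤ i₁ ⁻¹ᵁ cinter B fun _ : Fin 1 => (a₀, b) := fun b z hz => by
    refine (le_iInf fun _ => le_rfl : B (a₀, b) ≤ cinter B fun _ : Fin 1 => (a₀, b)) ⟨?_, ?_⟩
    · show (fst X Y).left (i₁ z) ∈ U a₀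
      rw [show (fst X Y).left (i₁ z) = x₀.left ((toUnit Y).left z) from
        congrArg (fun φ : Y ⟶ X => φ.left z) (lift_fst (toUnit Y ≫ x₀) (𝟙 Y))]
      exact hx₀ (Set.mem_univ _)
    · show (snd X Y).left (i₁ z) ∈ W b
      rw [show (snd X Y).left (i₁ z) = z from congrArg (fun φ : Y ⟶ Y => φ.left z) (lift_snd (toUnit Y ≫ x₀) (𝟙 Y))]
      exact hz
  have hU₁ : ∀ a, U a ≤ i₂ ⁻¹ᵁ cinter B fun _ : Fin 1 => (a, b₀) := fun a z hz => by
    refine (le_iInf fun _ => le_rfl : B (a, b₀) ≤ cinter B fun _ : Fin 1 => (a, b₀)) ⟨?_, ?_⟩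
    · show (fst X Y).left (i₂ z) ∈ U a
      rw [show (fst X Y).left (i₂ z) = z from congrArg (fun φ : X ⟶ X => φ.left z) (lift_fst (𝟙 X) (toUnit X ≫ y₀))]
      exact hz
    · show (snd X Y).left (i₂ z) ∈ W b₀
      rw [show (snd X Y).left (i₂ z) = y₀.left ((toUnit X).left z) from
        congrArg (fun φ : X ⟶ Y => φ.left z) (lift_snd (𝟙 X) (toUnit X ≫ y₀))]
      exact hy₀ (Set.mem_univ _)
  -- reading off a coboundary on an axis
  have read : ∀ {T : Scheme.{u}} (i : T ⟶ (X ⊗ Y).left) (y : ∀ a : Fin 1 → ιX × ιY, Γ(T, i ⁻¹ᵁ cinter B a))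
      (_ : ∀ a : Fin 2 → ιX × ιY, i.app (cinter B a) (K.iCycles 1 v a) = ∑ l : Fin 2, (-1 : ℤ) ^ (l : ℕ) •
          PicLib.res (i.preimage_mono (cinter_face B a l)) (y (a ∘ l.succAbove)))
      (s t : ιX × ιY) (V : T.Opens) (hs : V ≤ i ⁻¹ᵁ cinter B fun _ => s) (ht : V ≤ i ⁻¹ᵁ cinter B fun _ => t)
      (hV : V ≤ i ⁻¹ᵁ (B s ⊓ B t)),
      i.appLE (B s ⊓ B t) V hV (c s t) = PicLib.res ht (y fun _ => t) - PicLib.res hs (y fun _ => s) := by
    intro T i y hy s t V hs ht hV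
    have hV' : V ≤ i ⁻¹ᵁ cinter B ![s, t] := hV.trans (i.preimage_mono (le2 s t))
    have e1 : i.appLE (B s ⊓ B t) V hV (c s t) = PicLib.res hV' (i.app (cinter B ![s, t]) (K.iCycles 1 v ![s, t])) := by
      show ((X ⊗ Y).left.presheaf.map (homOfLE (le2 s t)).op ≫ i.appLE _ V hV) _ = (i.app _ ≫ T.presheaf.map _) _
      rw [Scheme.Hom.map_appLE]
      rfl
    rw [e1, hy, Fin.sum_univ_two, map_add, map_zsmul, map_zsmul]
    norm_num
    simp only [PicLib.res_res]
    have hcg : ∀ {a b : Fin 1 → ιX × ιY} (_ : a = b) (ha : V ≤ i ⁻¹ᵁ cinter B a) (hb : V ≤ i ⁻¹ᵁ cinter B b),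
        PicLib.res ha (y a) = PicLib.res hb (y b) := by
      rintro a b rfl ha hb
      rfl
    rw [hcg (a := ![s, t] ∘ (0 : Fin 2).succAbove) (b := fun _ => t) (funext fun l => by fin_cases l; rfl) _ ht,
      hcg (a := ![s, t] ∘ (1 : Fin 2).succAbove) (b := fun _ => s) (funext fun l => by fin_cases l; rfl) _ hs,
      ← sub_eq_add_neg]
  obtain ⟨β, hβ⟩ := exists_primitive U W hUa hWa hU hW hX hY x₀ a₀ hx₀ y₀ b₀ hy₀ c hc
    ⟨fun b => PicLib.res (hW₁ b) (yy fun _ => (a₀, b)), fun b b' V h h' hV => by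
      rw [appLEₐ_apply, resₐ_apply, resₐ_apply]
      refine (read i₁ yy hyy (a₀, b) (a₀, b') V (h.trans (hW₁ b)) (h'.trans (hW₁ b')) hV).trans ?_
      exact congrArg₂ (· - ·) (PicLib.res_res _ _ _).symm (PicLib.res_res _ _ _).symm⟩
    ⟨fun a => PicLib.res (hU₁ a) (xx fun _ => (a, b₀)), fun a a' V h h' hV => by
      rw [appLEₐ_apply, resₐ_apply, resₐ_apply]
      refine (read i₂ xx hxx (a, b₀) (a', b₀) V (h.trans (hU₁ a)) (h'.trans (hU₁ a')) hV).trans ?_
      exact congrArg₂ (· - ·) (PicLib.res_res _ _ _).symm (PicLib.res_res _ _ _).symm⟩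
  obtain ⟨y, hy⟩ := exists_eq_cxD (A := k) (v := K.iCycles 1 v) β fun s t => by
    refine (hβ s t).trans ?_
    rw [resₐ_apply, resₐ_apply]
  refine (hhCech k B hcov hB O 1).injective (hv.symm.trans (Eq.trans ?_ (map_zero _).symm))
  exact (homologyπ_eq_zero_iff K v).2 ⟨y, by rw [cxA_d]; exact hy⟩

end Groth.Agent.FlatMor12.Cube
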