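import Groth.Agent.FlatMor12.Cube.LES
import Groth.Agent.FlatMor12.Cube.Sheaves
import Groth.Agent.FlatMor12.Cube.Kunneth

/-!
# The vanishing on a fibre of the cube
-/

set_option autoImplicit false
set_option backward.isDefEq.respectTransparency.types false
set_option maxHeartbeats 1000000

universe u

open CategoryTheory CategoryTheory.Limits MonoidalCategory CartesianMonoidalCategory AlgebraicGeometry Opposite
  TopologicalSpace
open Groth.Agent.Coherent Groth.Agent.PicLib Groth.Agent.CubeLib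

namespace Groth.Agent.FlatMor12.Cube

variable {Z T : Scheme.{u}}

/-- Maps out of the structure module are determined by the value at `1`. -/
theorem hom_ext_one {M : Z.Modules} {φ ψ : Coh.structureModule Z ⟶ M} (h : unitVal φ ⊤ = unitVal ψ ⊤) : φ = ψ :=
  Scheme.Modules.hom_ext _ _ fun V => by
    ext r
    show φ.app V (show Γ(Z, V) from r) = ψ.app V (show Γ(Z, V) from r)
    rw [app_unit, app_unit, ← resM_unitVal φ (le_top : V ≤ ⊤), ← resM_unitVal ψ (le_top : V ≤ ⊤), h]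

theorem isZero_of_unitVal_eq_zero {M : Z.Modules} (φ : Coh.structureModule Z ⟶ M) [Epi φ] (h : unitVal φ ⊤ = 0) :
    IsZero M := by
  refine IsZero.of_epi_eq_zero φ (hom_ext_one ?_)
  rw [h]
  rfl

theorem subsingleton_sections_of_isZero {M : Z.Modules} (h : IsZero M) (U : Z.Opens) : Subsingleton Γ(M, U) :=
  subsingleton_of_forall_eq 0 fun t => congr(($((IsZero.iff_id_eq_zero M).1 h)).app U t)

/-- Global functions of `T` are units of `Z` or zero. -/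
def IsScalar (i : T ⟶ Z) : Prop := ∀ t : Γ(T, ⊤), t = 0 ∨ ∃ r : Γ(Z, ⊤)ˣ, i.app ⊤ (r : Γ(Z, ⊤)) = t

section Axis

variable {i : T ⟶ Z} (hi : IsScalar i)
include hi

theorem exists_unitVal [Nontrivial Γ(T, ⊤)]
    (φ : Coh.structureModule Z ⟶ (Scheme.Modules.pushforward i).obj (Coh.structureModule T)) [Epi φ] :
    ∃ r : Γ(Z, ⊤)ˣ, asFun i ⊤ (unitVal φ ⊤) = i.app ⊤ (r : Γ(Z, ⊤)) := by
  refine (hi (asFun i ⊤ (unitVal φ ⊤))).elim (fun h => ?_) fun ⟨r, hr⟩ => ⟨r, hr.symm⟩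
  have := subsingleton_sections_of_isZero (isZero_of_unitVal_eq_zero φ h) ⊤
  exact (one_ne_zero (α := Γ(T, ⊤)) (this.elim _ _)).elim

theorem surjective_app_top_of_epi [Nontrivial Γ(T, ⊤)]
    (φ : Coh.structureModule Z ⟶ (Scheme.Modules.pushforward i).obj (Coh.structureModule T)) [Epi φ] :
    Function.Surjective (φ.app ⊤) := by
  obtain ⟨r, hr⟩ := exists_unitVal hi φ
  intro t
  obtain h | ⟨r', hr'⟩ := hi t
  · exact ⟨0, by rw [map_zero]; exact h.symm⟩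
  · refine ⟨((r' * r⁻¹ : Γ(Z, ⊤)ˣ) : Γ(Z, ⊤)), ?_⟩
    refine (app_unit φ _).trans ?_
    show asFun i ⊤ (((r' * r⁻¹ : Γ(Z, ⊤)ˣ) : Γ(Z, ⊤)) • unitVal φ ⊤) = t
    refine (show _ = i.app ⊤ ((r' * r⁻¹ : Γ(Z, ⊤)ˣ) : Γ(Z, ⊤)) * asFun i ⊤ (unitVal φ ⊤) from rfl).trans ?_
    rw [hr, ← map_mul, Units.val_mul, mul_assoc, Units.inv_mul, mul_one, hr']

theorem hmap_unitToPush_eq_zero [Nontrivial Γ(T, ⊤)]
    (φ : Coh.structureModule Z ⟶ (Scheme.Modules.pushforward i).obj (Coh.structureModule T)) [Epi φ]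
    {z : Coh.HH Z (Coh.structureModule Z) 1} (h : hmap φ 1 z = 0) : hmap (ClSub.unitToPush i) 1 z = 0 := by
  obtain ⟨r, hr⟩ := exists_unitVal hi φ
  let m := (Scheme.Modules.pushforward i).map
    (unitDesc (Coh.structureModule T) (i.app ⊤ ((r⁻¹ : Γ(Z, ⊤)ˣ) : Γ(Z, ⊤))))
  have e : ClSub.unitToPush i = φ ≫ m := by
    refine hom_ext_one ?_
    show i.app ⊤ (1 : Γ(Z, ⊤)) = (unitDesc (Coh.structureModule T)
      (i.app ⊤ ((r⁻¹ : Γ(Z, ⊤)ˣ) : Γ(Z, ⊤)))).app (i ⁻¹ᵁ ⊤) (asFun i ⊤ (unitVal φ ⊤))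
    rw [app_unit, unitVal_unitDesc, hr, map_one]
    refine Eq.symm ?_
    show i.app ⊤ (r : Γ(Z, ⊤)) * res le_top (i.app ⊤ ((r⁻¹ : Γ(Z, ⊤)ˣ) : Γ(Z, ⊤))) = (1 : Γ(T, i ⁻¹ᵁ ⊤))
    rw [show res (le_top : i ⁻¹ᵁ (⊤ : Z.Opens) ≤ ⊤) (i.app ⊤ ((r⁻¹ : Γ(Z, ⊤)ˣ) : Γ(Z, ⊤))) =
      i.app ⊤ ((r⁻¹ : Γ(Z, ⊤)ˣ) : Γ(Z, ⊤)) from resM_self (Coh.structureModule T) _ _]
    exact (map_mul (i.app ⊤).hom _ _).symm.trans ((congrArg (i.app ⊤) r.mul_inv).trans (map_one (i.app ⊤).hom))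
  rw [e, hmap_comp, h, map_zero]

theorem injective_app_top_of_epi {B C : Z.Modules} (eB : B ≅ (Scheme.Modules.pushforward i).obj (Coh.structureModule T))
    (d : B ⟶ C) [Epi d] [Epi (ClSub.unitToPush i)] (hC : Nontrivial Γ(C, (⊤ : Z.Opens))) : Function.Injective (d.app ⊤) := by
  let φ := ClSub.unitToPush i ≫ eB.inv ≫ d
  have hφ : unitVal φ ⊤ ≠ 0 := fun h => not_subsingleton Γ(C, (⊤ : Z.Opens))
    (subsingleton_sections_of_isZero (isZero_of_unitVal_eq_zero φ h) ⊤)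
  refine (injective_iff_map_eq_zero _).2 fun b hb => ?_
  have hb' : eB.inv.app ⊤ (eB.hom.app ⊤ b) = b := congr(($(eB.hom_inv_id)).app ⊤ b)
  obtain h | ⟨r, hr⟩ := hi (asFun i ⊤ (eB.hom.app ⊤ b))
  · rw [← hb', show eB.hom.app ⊤ b = 0 from h, map_zero]
  · refine absurd ?_ hφ
    have h1 : φ.app ⊤ (r : Γ(Z, ⊤)) = 0 := by
      show d.app ⊤ (eB.inv.app ⊤ (show Γ((Scheme.Modules.pushforward i).obj (Coh.structureModule T), ⊤) from
        i.app ⊤ (r : Γ(Z, ⊤)))) = 0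
      rw [show (show Γ((Scheme.Modules.pushforward i).obj (Coh.structureModule T), ⊤) from
        i.app ⊤ (r : Γ(Z, ⊤))) = eB.hom.app ⊤ b from hr, hb', hb]
    rw [app_unit] at h1
    simpa [smul_smul] using congrArg (((r⁻¹ : Γ(Z, ⊤)ˣ) : Γ(Z, ⊤)) • ·) h1

end Axis

variable {k : Type u} [Field k] {X Y : Over (Spec (CommRingCat.of k))}

theorem isScalar_axis {X Z : Over (Spec (CommRingCat.of k))} (hX : Function.Bijective (algebraMap k Γ(X.left, ⊤)))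
    (a : X ⟶ Z) : IsScalar a.left := by
  intro t
  obtain ⟨c, rfl⟩ := hX.2 t
  rcases eq_or_ne c 0 with rfl | hc
  · exact Or.inl (map_zero _)
  · refine Or.inr ⟨Units.map (algebraMap k Γ(Z.left, ⊤)).toMonoidHom (Units.mk0 c hc), ?_⟩
    refine Eq.trans ?_ ((appLEₐ a ⊤ ⊤ le_rfl).commutes c)
    rw [appLEₐ_apply, Scheme.Hom.app_eq_appLE]
    rfl

variable [IsSeparated X.hom] [IsSeparated Y.hom] [CompactSpace X.left] [CompactSpace Y.left]

/-- The kernel has no first cohomology on the product. -/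
theorem subsingleton_HH_of_axes (hX : Function.Bijective (algebraMap k Γ(X.left, ⊤)))
    (hY : Function.Bijective (algebraMap k Γ(Y.left, ⊤))) (x₀ : 𝟙_ (Over (Spec (CommRingCat.of k))) ⟶ X)
    (y₀ : 𝟙_ (Over (Spec (CommRingCat.of k))) ⟶ Y)
    {G G₁ L A N B C : (X ⊗ Y).left.Modules} {i : G₁ ⟶ L} {a : L ⟶ A} {j : G ⟶ G₁} {b' : G₁ ⟶ N} {κ : N ⟶ B}
    {d : B ⟶ C} {w₁ : i ≫ a = 0} {w₂ : j ≫ b' = 0} {w₃ : κ ≫ d = 0}
    (h₁ : (ShortComplex.mk i a w₁).ShortExact) (h₂ : (ShortComplex.mk j b' w₂).ShortExact)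
    (h₃ : (ShortComplex.mk κ d w₃).ShortExact) (b : L ⟶ B) [Epi b] (hb : i ≫ b = b' ≫ κ)
    (eL : L ≅ Coh.structureModule (X ⊗ Y).left)
    (eA : A ≅ (Scheme.Modules.pushforward (lift (𝟙 X) (toUnit X ≫ y₀)).left).obj (Coh.structureModule X.left))
    (eB : B ≅ (Scheme.Modules.pushforward (lift (toUnit Y ≫ x₀) (𝟙 Y)).left).obj (Coh.structureModule Y.left))
    (hC : Nontrivial Γ(C, (⊤ : (X ⊗ Y).left.Opens))) : Subsingleton (Coh.HH (X ⊗ Y).left G 1) := by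
  haveI : Nontrivial Γ(X.left, ⊤) := hX.1.nontrivial
  haveI : Nontrivial Γ(Y.left, ⊤) := hY.1.nontrivial
  haveI : Epi a := h₁.epi_g
  haveI : Epi d := h₃.epi_g
  let i₁ := (lift (toUnit Y ≫ x₀) (𝟙 Y)).left
  let i₂ := (lift (𝟙 X) (toUnit X ≫ y₀)).left
  haveI : IsSeparated (fst X Y).left := MorphismProperty.of_isPullback (P := @IsSeparated)
    (IsPullback.of_hasPullback X.hom Y.hom).flip (inferInstanceAs (IsSeparated Y.hom))
  haveI : IsSeparated (snd X Y).left := MorphismProperty.of_isPullback (P := @IsSeparated)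
    (IsPullback.of_hasPullback X.hom Y.hom) (inferInstanceAs (IsSeparated X.hom))
  have e₁ : i₁ ≫ (snd X Y).left = 𝟙 _ := by rw [← Over.comp_left, lift_snd]; rfl
  haveI : IsClosedImmersion i₁ := by
    haveI : IsClosedImmersion (i₁ ≫ (snd X Y).left) := by rw [e₁]; infer_instance
    exact IsClosedImmersion.of_comp i₁ (snd X Y).left
  haveI : Epi (ClSub.unitToPush i₁) := epi_unitToPush i₁ _ e₁
  have hs₂ := isScalar_axis hX (lift (𝟙 X) (toUnit X ≫ y₀))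
  have hs₁ := isScalar_axis hY (lift (toUnit Y ≫ x₀) (𝟙 Y))
  let φ₂ := eL.inv ≫ a ≫ eA.hom
  let φ₁ := eL.inv ≫ b ≫ eB.hom
  refine subsingleton_of_jointly_injective h₁ h₂ h₃ b hb ?_ (injective_app_top_of_epi hs₁ eB d hC) fun y hay hby => ?_
  · intro t
    obtain ⟨r, hr⟩ := surjective_app_top_of_epi hs₂ φ₂ (eA.hom.app ⊤ t)
    refine ⟨eL.inv.app ⊤ r, ?_⟩
    have := congrArg (eA.inv.app ⊤) hr
    rw [show eA.inv.app ⊤ (eA.hom.app ⊤ t) = t from congr(($(eA.hom_inv_id)).app ⊤ t),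
      show eA.inv.app ⊤ (φ₂.app ⊤ r) = a.app ⊤ (eL.inv.app ⊤ r) from
        congr(($(eA.hom_inv_id)).app ⊤ (a.app ⊤ (eL.inv.app ⊤ r)))] at this
    exact this
  have hz : ∀ {M : (X ⊗ Y).left.Modules} (ψ : L ⟶ M) {M' : (X ⊗ Y).left.Modules} (e : M ≅ M'),
      hmap ψ 1 y = 0 → hmap (eL.inv ≫ ψ ≫ e.hom) 1 (hmap eL.hom 1 y) = 0 := by
    intro M ψ M' e h
    rw [← hmap_comp, Iso.hom_inv_id_assoc, hmap_comp, h, map_zero]
  have h := eq_zero_of_axes hX hY x₀ y₀ (z := hmap eL.hom 1 y)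
    (hmap_unitToPush_eq_zero hs₁ φ₁ (hz b eB hby)) (hmap_unitToPush_eq_zero hs₂ φ₂ (hz a eA hay))
  have := congrArg (hmap eL.inv 1) h
  rw [map_zero, ← hmap_comp, Iso.hom_inv_id] at this
  refine Eq.trans ?_ this
  rw [hmap, CategoryTheory.Functor.map_id, Sheaf.H.map_id_apply]

end Groth.Agent.FlatMor12.Cube
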