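import Groth.Agent.Coherent.CohModule
import Groth.Agent.Coherent.CohOps
import Groth.Agent.Coherent.CohFinite
import Groth.Agent.Coherent.QcohOps

/-!
# Diagram chases in the cohomology sequences of three short exact sequences

For `0 → G₁ → L → A → 0`, `0 → G → G₁ → N → 0`, `0 → N → B → C → 0` with `G₁ → L → B` equal to `G₁ → N → B`.
-/

set_option autoImplicit false
set_option backward.isDefEq.respectTransparency.types false

universe u

open CategoryTheory CategoryTheory.Limits AlgebraicGeometry Opposite TopologicalSpace CategoryTheory.Abelian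
open Groth.Agent.Coherent

namespace Groth.Agent.FlatMor12.Cube

variable {X : Scheme.{u}}

/-- The map on cohomology. -/
noncomputable abbrev hmap {M N : X.Modules} (φ : M ⟶ N) (n : ℕ) : Coh.HH X M n →+ Coh.HH X N n :=
  Sheaf.H.map ((toAbFunctor X).map φ) n

theorem hmap_comp {M N P : X.Modules} (φ : M ⟶ N) (ψ : N ⟶ P) (n : ℕ) (x : Coh.HH X M n) :
    hmap (φ ≫ ψ) n x = hmap ψ n (hmap φ n x) := by
  rw [hmap, Functor.map_comp]
  exact Sheaf.H.map_comp_apply _ _ x

theorem hmap_zero {M N : X.Modules} (n : ℕ) (x : Coh.HH X M n) : hmap (0 : M ⟶ N) n x = 0 := by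
  rw [hmap, Functor.map_zero, Sheaf.H.map_apply, Ext.mk₀_zero, Ext.comp_zero]

/-- Degree zero cohomology is sections. -/
noncomputable def h0 (M : X.Modules) : Coh.HH X M 0 ≃+ Γ(M, (⊤ : X.Opens)) :=
  Sheaf.H.equiv₀ (Coh.toAb M) (topIsTerminal X.toTopCat)

theorem h0_hmap {M N : X.Modules} (φ : M ⟶ N) (x : Coh.HH X M 0) : h0 N (hmap φ 0 x) = φ.app ⊤ (h0 M x) :=
  (Sheaf.H.equiv₀_naturality (topIsTerminal X.toTopCat) ((toAbFunctor X).map φ) x).symm

theorem surjective_hmap_zero {M N : X.Modules} (φ : M ⟶ N) (h : Function.Surjective (φ.app ⊤)) :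
    Function.Surjective (hmap φ 0) := fun y => by
  obtain ⟨t, ht⟩ := h (h0 N y)
  exact ⟨(h0 M).symm t, (h0 N).injective (by rw [h0_hmap, AddEquiv.apply_symm_apply, ht])⟩

theorem surjective_app_top {M N : X.Modules} (φ : M ⟶ N) (h : Function.Surjective (hmap φ 0)) :
    Function.Surjective (φ.app ⊤) := fun t => by
  obtain ⟨x, hx⟩ := h ((h0 N).symm t)
  exact ⟨h0 M x, by rw [← h0_hmap, hx, AddEquiv.apply_symm_apply]⟩

section Seq

variable {S : ShortComplex X.Modules} (hS : S.ShortExact)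
include hS

theorem exists_of_hmap_eq_zero (n : ℕ) (x : Coh.HH X S.X₂ n) (h : hmap S.g n x = 0) :
    ∃ y, hmap S.f n y = x :=
  Ext.covariant_sequence_exact₂ _ (toAb_shortExact hS) x h

/-- `H⁰` onto the quotient iff `H¹` into the middle. -/
theorem injective_hmap_f (h : Function.Surjective (S.g.app ⊤)) : Function.Injective (hmap S.f 1) := by
  refine (injective_iff_map_eq_zero _).2 fun x hx => ?_
  obtain ⟨y, rfl⟩ := Ext.covariant_sequence_exact₁ _ (toAb_shortExact hS) x hx (rfl : 0 + 1 = 1)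
  obtain ⟨z, hz⟩ := surjective_hmap_zero S.g h y
  exact (comp_extClass_eq_zero_iff (toAb_shortExact hS) y).2 ⟨z, hz⟩

theorem surjective_g_app_top (h : Function.Injective (hmap S.f 1)) : Function.Surjective (S.g.app ⊤) := by
  refine surjective_app_top S.g fun y => ?_
  exact (comp_extClass_eq_zero_iff (toAb_shortExact hS) y).1 (h (((Ext.comp_assoc_of_third_deg_zero y
    (toAb_shortExact hS).extClass (Ext.mk₀ ((toAbFunctor X).map S.f)) (rfl : 0 + 1 = 1)).trans
    ((congrArg (fun z => y.comp z (rfl : 0 + 1 = 1)) (toAb_shortExact hS).extClass_comp).trans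
      (Ext.comp_zero _ _ _ _ _))).trans (map_zero (hmap S.f 1)).symm))

theorem subsingleton_app_top (h : Function.Injective (S.g.app ⊤)) : Subsingleton Γ(S.X₁, (⊤ : X.Opens)) := by
  have := hS.mono_f
  refine ⟨fun a b => ?_⟩
  have h1 : ∀ a : Γ(S.X₁, (⊤ : X.Opens)), S.f.app ⊤ a = 0 := fun a => h (by
    rw [map_zero]
    exact congr(($(S.zero)).app ⊤ a))
  exact app_injective_of_mono S.f ⊤ ((h1 a).trans (h1 b).symm)

end Seq

variable {G G₁ L A N B C : X.Modules} {i : G₁ ⟶ L} {a : L ⟶ A} {j : G ⟶ G₁} {b' : G₁ ⟶ N} {k : N ⟶ B}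
  {d : B ⟶ C} {w₁ : i ≫ a = 0} {w₂ : j ≫ b' = 0} {w₃ : k ≫ d = 0}
  (h₁ : (ShortComplex.mk i a w₁).ShortExact) (h₂ : (ShortComplex.mk j b' w₂).ShortExact)
  (h₃ : (ShortComplex.mk k d w₃).ShortExact) (b : L ⟶ B) (hb : i ≫ b = b' ≫ k)
include h₁ h₂ h₃ hb

/-- The chase on a fibre. -/
theorem subsingleton_of_jointly_injective (ha : Function.Surjective (a.app ⊤)) (hd : Function.Injective (d.app ⊤))
    (hab : ∀ y : Coh.HH X L 1, hmap a 1 y = 0 → hmap b 1 y = 0 → y = 0) : Subsingleton (Coh.HH X G 1) := by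
  have hN := subsingleton_app_top h₃ hd
  refine subsingleton_of_forall_eq 0 fun z => injective_hmap_f h₂ (fun t => ⟨0, Subsingleton.elim (h := hN) _ _⟩) ?_
  refine injective_hmap_f h₁ ha ?_
  show hmap i 1 (hmap j 1 z) = hmap i 1 (hmap j 1 0)
  rw [map_zero, map_zero]
  refine hab _ ?_ ?_
  · rw [← hmap_comp, w₁, hmap_zero]
  · rw [← hmap_comp, hb, hmap_comp]
    refine (congrArg (hmap k 1) ?_).trans (map_zero _)
    rw [← hmap_comp, w₂, hmap_zero]

/-- The chase over the base. -/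
theorem surjective_of_subsingleton (hG : Subsingleton (Coh.HH X G 1)) (hd : Function.Surjective (d.app ⊤)) :
    Function.Surjective (a.app ⊤) := by
  refine surjective_g_app_top h₁ ((injective_iff_map_eq_zero _).2 fun z hz => ?_)
  have h : hmap b' 1 z = 0 := injective_hmap_f h₃ hd (by
    show hmap k 1 _ = hmap k 1 0
    rw [map_zero, ← hmap_comp, ← hb, hmap_comp, show hmap i 1 z = 0 from hz, map_zero])
  obtain ⟨y, rfl⟩ := exists_of_hmap_eq_zero h₂ 1 z h
  rw [Subsingleton.elim (h := hG) y 0, map_zero]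

end Groth.Agent.FlatMor12.Cube
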