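import Groth.Agent.FlatMor12.Cube.Main
import Groth.Agent.CubeLib.FibrewiseTriv
import Groth.Agent.AbSchLib.RigidityOver

/-!
# The locus of triviality on the fibres is open and closed
-/

set_option autoImplicit false
set_option linter.style.haveILetI false
set_option backward.isDefEq.respectTransparency.types false
set_option maxHeartbeats 1000000

universe u

open CategoryTheory CategoryTheory.Limits MonoidalCategory CartesianMonoidalCategory AlgebraicGeometry Opposite
  TopologicalSpace
open Groth.Agent.Coherent Groth.Agent.PicLib Groth.Agent.CubeLib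

namespace Groth.Agent.FlatMor12.Cube

/-- Functions descend along a proper flat morphism with geometrically integral fibres, after any base change. -/
theorem isIso_app_of_geometricallyIntegral {X S : Scheme.{u}} (f : X ⟶ S) [Flat f] [IsProper f]
    [LocallyOfFinitePresentation f] [GeometricallyIntegral f] (T : Scheme.{u}) (t : T ⟶ S) (U : T.Opens) :
    IsIso ((pullback.snd f t).app U) := by
  let π := pullback.snd f t
  haveI : IsProper π := MorphismProperty.pullback_snd (P := @IsProper) _ _ inferInstance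
  haveI : GeometricallyIntegral π := inferInstance
  haveI : GeometricallyConnected π := AbSchLib.geometricallyConnected_of_irreducible π
  haveI : IsIso (ClSub.unitToPush π) := Clifford24.isIso_unitToPush π fun y => bijective_algebraMap_fibre π y
  rw [ConcreteCategory.isIso_iff_bijective]
  exact ConcreteCategory.bijective_of_isIso ((ClSub.unitToPush π).app U)

/-- Functions on an open of the base are the functions on its inverse image. -/
theorem bijective_app_of_geometricallyIntegral {X S : Scheme.{u}} (f : X ⟶ S) [Flat f] [IsProper f]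
    [LocallyOfFinitePresentation f] [GeometricallyIntegral f] (U : S.Opens) : Function.Bijective (f.app U) := by
  haveI : GeometricallyConnected f := AbSchLib.geometricallyConnected_of_irreducible f
  haveI : IsIso (ClSub.unitToPush f) := Clifford24.isIso_unitToPush f fun y => bijective_algebraMap_fibre f y
  exact ConcreteCategory.bijective_of_isIso ((ClSub.unitToPush f).app U)

variable {X Y S : Scheme.{u}} {f : X ⟶ S} {g : Y ⟶ S} {σ : S ⟶ X} {τ : S ⟶ Y} {u : X ⟶ pullback f g}
  {v : Y ⟶ pullback f g} [Flat f] [IsProper f] [LocallyOfFinitePresentation f] [GeometricallyIntegral f] [Flat g]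
  [IsProper g] [LocallyOfFinitePresentation g] [GeometricallyIntegral g]

theorem isIntegral_fiber (s : S) : IsIntegral ((toS f g).fiber s) := by
  let k := S.residueField s
  haveI : GeometricallyIntegral (fibOver f s).hom :=
    inferInstanceAs (GeometricallyIntegral (f.fiberToSpecResidueField s))
  haveI : GeometricallyIntegral (fibOver g s).hom :=
    inferInstanceAs (GeometricallyIntegral (g.fiberToSpecResidueField s))
  haveI : Flat (fibOver g s).hom := MorphismProperty.pullback_snd (P := @Flat) _ _ inferInstance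
  haveI : IsIntegral (fibOver f s).left := inferInstanceAs (IsIntegral (f.fiber s))
  haveI : IsProper (f.fiberToSpecResidueField s) := MorphismProperty.pullback_snd (P := @IsProper) _ _ inferInstance
  haveI : LocallyOfFiniteType (fibOver f s).hom := inferInstanceAs (LocallyOfFiniteType (f.fiberToSpecResidueField s))
  haveI : IsLocallyNoetherian (fibOver f s).left := LocallyOfFiniteType.isLocallyNoetherian (fibOver f s).hom
  haveI : UniversallyOpen (fibOver g s).hom := inferInstance
  haveI : IsIntegral (fibOver f s ⊗ fibOver g s).left :=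
    inferInstanceAs (IsIntegral (pullback (fibOver f s).hom (fibOver g s).hom))
  let E := (isPullback_prodι f g s).isoPullback
  haveI : Nonempty ↥((toS f g).fiber s) :=
    Nonempty.map (fun z => E.hom z) (inferInstance : Nonempty (fibOver f s ⊗ fibOver g s).left)
  exact isIntegral_of_isOpenImmersion E.inv

/-- The inverse image of an open in the product. -/
noncomputable abbrev over' (f : X ⟶ S) (g : Y ⟶ S) (U : S.Opens) : (pullback f g).Opens := toS f g ⁻¹ᵁ U

theorem surjective_toS_app (U : S.Opens) : Function.Surjective ((toS f g).app U) := by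
  have h1 : Function.Bijective (f.app U) := bijective_app_of_geometricallyIntegral f U
  have h2 : Function.Surjective ((pullback.fst f g).app (f ⁻¹ᵁ U)) := by
    have key : ∀ (φ : pullback f g ⟶ X) (_ : φ = (pullbackSymmetry f g).hom ≫ pullback.snd g f),
        Function.Surjective (φ.app (f ⁻¹ᵁ U)) := by
      rintro φ rfl
      rw [Scheme.Hom.comp_app]
      haveI := isIso_app_of_geometricallyIntegral g X f (f ⁻¹ᵁ U)
      exact (ConcreteCategory.bijective_of_isIso ((pullbackSymmetry f g).hom.app _)).2.comp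
        (ConcreteCategory.bijective_of_isIso ((pullback.snd g f).app (f ⁻¹ᵁ U))).2
    exact key _ (pullbackSymmetry_hom_comp_snd f g).symm
  exact h2.comp h1.2

variable (ax : Axes f g σ τ u v) {L : (pullback f g).Modules} (hL : PicF.IsInvertible L)
  (e₁ : (Scheme.Modules.pullback u).obj L ≅ Coh.structureModule X)
include ax hL

theorem Axes.u_le (U : S.Opens) : f ⁻¹ᵁ U ≤ u ⁻¹ᵁ over' f g U := fun x hx => by
  show (toS f g) (u x) ∈ U
  rw [← Scheme.Hom.comp_apply, ax.u_toS]
  exact hx

/-- The value on the first slice. -/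
noncomputable def Axes.val {U : S.Opens} (t : Γ(L, over' f g U)) : Γ(X, f ⁻¹ᵁ U) :=
  res (ax.u_le hL U) (asFun u _ ((toPush u e₁).app _ t))

theorem Axes.val_smul {U : S.Opens} (r : Γ(S, U)) (t : Γ(L, over' f g U)) :
    ax.val hL e₁ ((toS f g).app U r • t) = f.app U r * ax.val hL e₁ t := by
  rw [Axes.val, toPush_smul, map_mul]
  congr 1
  have key : ∀ (φ : X ⟶ S) (_ : φ = f) (h : f ⁻¹ᵁ U ≤ φ ⁻¹ᵁ U), res h (φ.app U r) = f.app U r := by
    rintro φ rfl h
    exact resM_self (Coh.structureModule X) h _
  exact key (u ≫ toS f g) ax.u_toS _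

/-- Generators normalised along the first slice are unique. -/
theorem Axes.eq_of_val {U : S.Opens} {t t' : Γ(L, over' f g U)} (ht : IsGen L _ t) (h : ax.val hL e₁ t = 1)
    (h' : ax.val hL e₁ t' = 1) : t' = t := by
  obtain ⟨r, hr⟩ := (ht _ le_rfl).2 t'
  simp only [resM_self] at hr
  obtain ⟨r', rfl⟩ := surjective_toS_app (f := f) (g := g) U r
  have h1 := ax.val_smul hL e₁ r' t
  rw [hr, h, h', mul_one] at h1
  have h2 : r' = 1 := by
    exact (bijective_app_of_geometricallyIntegral f U).1 (h1.symm.trans (map_one _).symm)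
  rw [← hr, h2, map_one, one_smul]

omit e₁ in
/-- A generator can be normalised. -/
theorem Axes.exists_normalised (e₁ : (Scheme.Modules.pullback u).obj L ≅ Coh.structureModule X) {U : S.Opens}
    {t : Γ(L, over' f g U)} (ht : IsGen L _ t) :
    ∃ t' : Γ(L, over' f g U), IsGen L _ t' ∧ ax.val hL e₁ t' = 1 := by
  obtain ⟨c, hc⟩ := (bijective_app_of_geometricallyIntegral f U).2 (ax.val hL e₁ t)
  have hu : IsUnit (ax.val hL e₁ t) := (isUnit_toPush u hL e₁ ht).map _
  obtain ⟨d, hd⟩ := (bijective_app_of_geometricallyIntegral f U).2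
    ((hu.unit⁻¹ : Γ(X, f ⁻¹ᵁ U)ˣ) : Γ(X, f ⁻¹ᵁ U))
  have hdu : IsUnit d := by
    refine IsUnit.of_mul_eq_one c ((bijective_app_of_geometricallyIntegral f U).1 ?_)
    show f.app U (d * c) = f.app U 1
    rw [map_mul, map_one]
    exact (congrArg₂ (· * ·) hd hc).trans hu.val_inv_mul
  refine ⟨(toS f g).app U d • t, ?_, ?_⟩
  · obtain ⟨w, hw⟩ := hdu.map ((toS f g).app U).hom
    rw [← hw]
    exact ht.smul_unit w
  · rw [ax.val_smul]
    exact (congrArg (· * ax.val hL e₁ t) hd).trans hu.val_inv_mul

omit e₁ in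
/-- A module trivial on a slice and on the fibres over an open subset of the base near each point. -/
theorem Axes.exists_gen_of_local (e₁ : (Scheme.Modules.pullback u).obj L ≅ Coh.structureModule X) (W : S.Opens)
    (h : ∀ s ∈ W, ∃ U : S.Opens, s ∈ U ∧ ∃ t : Γ(L, over' f g U), IsGen L _ t) :
    ∃ t : Γ(L, over' f g W), IsGen L _ t := by
  choose! U hsU t₀ ht₀ using h
  have h1 : ∀ s : W, ∃ t : Γ(L, over' f g (W ⊓ U s)), IsGen L _ t ∧ ax.val hL e₁ t = 1 := fun s =>
    ax.exists_normalised hL e₁ ((ht₀ s s.2).restrict ((toS f g).preimage_mono inf_le_right))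
  choose t ht hv using h1
  have hres : ∀ {A B : S.Opens} (hle : B ≤ A) (a : Γ(L, over' f g A)), ax.val hL e₁ a = 1 →
      ax.val hL e₁ (resM L ((toS f g).preimage_mono hle) a) = 1 := fun {A B} hle a ha => by
    rw [Axes.val, toPush_res, PicLib.res_res]
    rw [Axes.val] at ha
    exact (PicLib.res_res (ax.u_le hL A) (f.preimage_mono hle) _).symm.trans (by rw [ha, map_one])
  obtain ⟨T, hT, -⟩ := TopCat.Sheaf.existsUnique_gluing' (⟨L.presheaf, L.isSheaf⟩ : TopCat.Sheaf Ab _)
    (fun s : W => over' f g (W ⊓ U s)) (over' f g W) (fun s => homOfLE ((toS f g).preimage_mono inf_le_left))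
    (fun p hp => Opens.mem_iSup.2 ⟨⟨(toS f g) p, hp⟩, hp, hsU _ hp⟩) t fun i j => by
      have e := ax.eq_of_val hL e₁
        ((ht i).restrict ((toS f g).preimage_mono (inf_le_left : (W ⊓ U i) ⊓ (W ⊓ U j) ≤ W ⊓ U i)))
        (hres inf_le_left _ (hv i)) (hres (inf_le_right : (W ⊓ U i) ⊓ (W ⊓ U j) ≤ W ⊓ U j) _ (hv j))
      exact e.symm
  refine ⟨T, isGen_of_cover (fun s : W => over' f g (W ⊓ U s)) (fun s => (toS f g).preimage_mono inf_le_left)
    (fun p hp => Opens.mem_iSup.2 ⟨⟨(toS f g) p, hp⟩, hp, hsU _ hp⟩) fun s => ?_⟩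
  rw [show resM L _ T = t s from hT s]
  exact ht s

omit ax in
/-- Triviality on a fibre in terms of the Picard group. -/
theorem trivial_fiber_iff (s : S) :
    Nonempty ((Scheme.Modules.pullback ((toS f g).fiberι s)).obj L ≅ Coh.structureModule ((toS f g).fiber s)) ↔
      PicM.pull ((toS f g).fiberι s) (PicM.of hL) = 1 := by
  rw [PicM.pull_of, PicM.of_eq_one_iff]

omit ax in
theorem exists_section_of_trivial {s : S} (h : PicM.pull ((toS f g).fiberι s) (PicM.of hL) = 1) :
    ¬ Subsingleton (CohIII.fiberH (toS f g) L s 0) := by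
  intro hs
  haveI := isIntegral_fiber (f := f) (g := g) s
  rw [PicM.pull_of] at h
  obtain ⟨a, ha⟩ := exists_ne_zero_of_eq_one h
  exact ha ((h0 _).symm.injective (hs.elim _ _))

/-- The theorem of the cube: the points over which the module is trivial form an open and closed set, over which
it is trivial. -/
theorem Axes.exists_clopen_trivial (e₂ : (Scheme.Modules.pullback v).obj L ≅ Coh.structureModule Y)
    (e₁ : (Scheme.Modules.pullback u).obj L ≅ Coh.structureModule X) (z : S)
    (e₃ : (Scheme.Modules.pullback ((toS f g).fiberι z)).obj L ≅ Coh.structureModule ((toS f g).fiber z)) :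
    ∃ W : S.Opens, IsClosed (W : Set S) ∧ z ∈ W ∧
      Nonempty (L.restrict (over' f g W).ι ≅ Coh.structureModule (over' f g W).toScheme) := by
  let h := toS f g
  let G : Set S := {s | PicM.pull (h.fiberι s) (PicM.of hL) = 1}
  have hnear : ∀ s ∈ G, ∃ U : S.Opens, s ∈ U ∧ ∃ t : Γ(L, over' f g U), IsGen L _ t := fun s hs => by
    obtain ⟨e⟩ := (trivial_fiber_iff hL s).2 hs
    obtain ⟨U, hsU, ⟨e'⟩⟩ := ax.exists_trivial_nhd hL e₁ e₂ (isIso_app_of_geometricallyIntegral f)
      (isIso_app_of_geometricallyIntegral g) s e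
    exact ⟨U, hsU, exists_isGen_of_iso e'⟩
  have hopen : IsOpen G := isOpen_iff_forall_mem_open.2 fun s hs => by
    obtain ⟨U, hsU, t, ht⟩ := hnear s hs
    refine ⟨U, fun s' hs' => ?_, U.2, hsU⟩
    show PicM.pull (h.fiberι s') (PicM.of hL) = 1
    rw [PicM.pull_of]
    have hU : h.fiberι s' ⁻¹ᵁ over' f g U = ⊤ := top_le_iff.1 fun q _ => by
      have hq : h.fiberι s' q ∈ h ⁻¹' {s'} := (h.range_fiberι s').le ⟨q, rfl⟩
      show h (h.fiberι s' q) ∈ U
      rw [show h (h.fiberι s' q) = s' from hq]
      exact hs'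
    exact eq_one_of_isGen_top _ (t := resM _ hU.ge (pullSec (h.fiberι s') t))
      ((isGen_pullSec (h.fiberι s') ht hL).restrict hU.ge)
  obtain ⟨b, hb⟩ := PicM.exists_mul_eq_one (PicM.of hL)
  obtain ⟨M, hM, rfl⟩ := PicM.exists_eq_of b
  have hiff : G = {s | ¬ Subsingleton (CohIII.fiberH h L s 0)} ∩ {s | ¬ Subsingleton (CohIII.fiberH h M s 0)} := by
    refine Set.ext fun s => ⟨fun hs => ?_, fun ⟨h₁, h₂⟩ => ?_⟩
    · refine ⟨exists_section_of_trivial hL hs, exists_section_of_trivial hM ?_⟩
      have := congrArg (PicM.pull (h.fiberι s)) hb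
      rwa [map_mul, map_one, show PicM.pull (h.fiberι s) (PicM.of hL) = 1 from hs, one_mul] at this
    · haveI := isIntegral_fiber (f := f) (g := g) s
      haveI : IsProper (h.fiberToSpecResidueField s) :=
        MorphismProperty.pullback_snd (P := @IsProper) _ _ inferInstance
      have hsec : ∀ {N : (pullback f g).Modules}, ¬ Subsingleton (CohIII.fiberH h N s 0) →
          ∃ a : Γ(CohIII.fiberMod h N s, ⊤), a ≠ 0 := fun {N} hN => by
        by_contra hc
        push Not at hc
        haveI := subsingleton_of_forall_eq (0 : Γ(CohIII.fiberMod h N s, ⊤)) hc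
        exact hN (h0 (CohIII.fiberMod h N s)).toEquiv.subsingleton
      obtain ⟨a, ha⟩ := hsec h₁
      obtain ⟨c, hc⟩ := hsec h₂
      show PicM.pull (h.fiberι s) (PicM.of hL) = 1
      rw [PicM.pull_of]
      refine eq_one_of_sections (K := S.residueField s) (h.fiberToSpecResidueField s) _
        (PicLoc.isInvertible_pullback (h.fiberι s) hM) ?_ ha hc
      have := congrArg (PicM.pull (h.fiberι s)) hb
      rwa [map_mul, map_one, PicM.pull_of, PicM.pull_of] at this
  have hclosed : IsClosed G := by
    have hc : ∀ {N : (pullback f g).Modules}, PicF.IsInvertible N →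
        IsClosed {s | ¬ Subsingleton (CohIII.fiberH h N s 0)} := fun {N} hN => by
      haveI := H8Coh.FibreAmple.isQCoh_of_invertible hN
      exact (CohExch.isOpen_fibre_vanishing (H8Coh.FibreAmple.isFP_of_invertible hN)
        (CohBC.isFlatOver_of_isFinLocFree h fun x =>
          let ⟨U, hx, e⟩ := PicLib.isFinLocFreeOfRank_one hN x
          ⟨U, 1, hx, e⟩) 0).isClosed_compl
    rw [hiff]
    exact (hc hL).inter (hc hM)
  refine ⟨⟨G, hopen⟩, hclosed, (trivial_fiber_iff hL z).1 ⟨e₃⟩, ?_⟩
  obtain ⟨t, ht⟩ := ax.exists_gen_of_local hL e₁ ⟨G, hopen⟩ hnear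
  exact nonempty_restrict_iso ht

end Groth.Agent.FlatMor12.Cube
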