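import Groth.Agent.FlatMor12.Cube.Near

/-!
# The theorem of the cube near a point of the base
-/

set_option autoImplicit false
set_option linter.style.haveILetI false
set_option backward.isDefEq.respectTransparency.types false
set_option maxHeartbeats 1000000

universe u

open CategoryTheory CategoryTheory.Limits MonoidalCategory CartesianMonoidalCategory AlgebraicGeometry Opposite
  TopologicalSpace
open Groth.Agent.Coherent Groth.Agent.PicLib Groth.Agent.CubeLib

namespace Groth.Agent.FlatMor12.Cube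

/-- `t` generates `L` near `z`. -/
def GenNear {P : Scheme.{u}} (L : P.Modules) {W : P.Opens} (t : Γ(L, W)) (z : P) : Prop :=
  ∃ (V : P.Opens) (h : V ≤ W), z ∈ V ∧ IsGen L V (resM L h t)

theorem genNear_iff {T P : Scheme.{u}} (i : T ⟶ P) {L : P.Modules} (hL : PicF.IsInvertible L)
    (e : (Scheme.Modules.pullback i).obj L ≅ Coh.structureModule T) {W : P.Opens} (t : Γ(L, W)) (z : T)
    (hz : i z ∈ W) : GenNear L t (i z) ↔ z ∈ T.basicOpen (asFun i W ((toPush i e).app W t)) := by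
  obtain ⟨V₀, hzV₀, γ₀, hγ₀⟩ := exists_isGen hL (i z)
  have hγ := hγ₀.restrict (inf_le_right : W ⊓ V₀ ≤ V₀)
  let γ := resM L (inf_le_right : W ⊓ V₀ ≤ V₀) γ₀
  let c : Γ(P, W ⊓ V₀) := hγ.coef le_rfl (resM L inf_le_left t)
  have hc : c • γ = resM L inf_le_left t := by
    have := hγ.coef_spec le_rfl (resM L inf_le_left t)
    rwa [resM_self] at this
  have h1 : GenNear L t (i z) ↔ i z ∈ P.basicOpen c := by
    constructor
    · rintro ⟨V, h, hzV, hg⟩
      have h2 : V ⊓ (W ⊓ V₀) ≤ W ⊓ V₀ := inf_le_right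
      have hu := (hγ.restrict h2).isUnit_coef (hg.restrict (inf_le_left : V ⊓ (W ⊓ V₀) ≤ V))
      rw [(hγ.restrict h2).coef_eq le_rfl (r := res h2 c) (by
        rw [resM_self, ← resM_smul, hc, resM_resM, resM_resM])] at hu
      have h3 := P.basicOpen_of_isUnit hu
      rw [Scheme.basicOpen_res] at h3
      exact (h3.ge (⟨hzV, hz, hzV₀⟩ : i z ∈ V ⊓ (W ⊓ V₀))).2
    · intro h
      refine ⟨P.basicOpen c, (P.basicOpen_le c).trans inf_le_left, h, ?_⟩
      obtain ⟨w, hw⟩ := AlgebraicGeometry.RingedSpace.isUnit_res_basicOpen _ c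
      have := (hγ.restrict (P.basicOpen_le c)).smul_unit w
      rw [hw] at this
      convert this using 1
      rw [← resM_resM L (inf_le_left : W ⊓ V₀ ≤ W) (P.basicOpen_le c), ← hc, resM_smul]
      rfl
  have h2 : res (i.preimage_mono (inf_le_left : W ⊓ V₀ ≤ W)) (asFun i W ((toPush i e).app W t)) =
      i.app (W ⊓ V₀) c * asFun i (W ⊓ V₀) ((toPush i e).app (W ⊓ V₀) γ) := by
    rw [← toPush_res i (toPush i e) (inf_le_left : W ⊓ V₀ ≤ W), ← hc, toPush_smul]
  obtain ⟨w, hw⟩ := isUnit_toPush i hL e hγ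
  have h3 := congrArg T.basicOpen h2
  rw [Scheme.basicOpen_res, ← hw, Scheme.basicOpen_mul, T.basicOpen_of_isUnit w.isUnit, ← Scheme.preimage_basicOpen] at h3
  rw [h1]
  exact ⟨fun h => (h3.ge ⟨h, hz, hzV₀⟩).2, fun h => (h3.le ⟨⟨hz, hzV₀⟩, h⟩).1⟩

theorem isOpen_genNear {P : Scheme.{u}} (L : P.Modules) {W : P.Opens} (t : Γ(L, W)) : IsOpen {z | GenNear L t z} :=
  isOpen_iff_forall_mem_open.2 fun _ ⟨V, h, hz, hg⟩ => ⟨V, fun _ hy => ⟨V, h, hy, hg⟩, V.2, hz⟩

variable {X Y S : Scheme.{u}} {f : X ⟶ S} {g : Y ⟶ S} {σ : S ⟶ X} {τ : S ⟶ Y} {u : X ⟶ pullback f g}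
  {v : Y ⟶ pullback f g} (ax : Axes f g σ τ u v) [Flat f] [IsProper f] [LocallyOfFinitePresentation f] [Flat g]
  [IsProper g] [LocallyOfFinitePresentation g]
  {L : (pullback f g).Modules} (hL : PicF.IsInvertible L)
  (e₁ : (Scheme.Modules.pullback u).obj L ≅ Coh.structureModule X)
  (e₂ : (Scheme.Modules.pullback v).obj L ≅ Coh.structureModule Y)
include ax hL e₁ e₂

theorem Axes.exists_trivial_nhd
    (hOf : ∀ (T : Scheme.{u}) (t : T ⟶ S) (U : T.Opens), IsIso ((pullback.snd f t).app U))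
    (hOg : ∀ (T : Scheme.{u}) (t : T ⟶ S) (U : T.Opens), IsIso ((pullback.snd g t).app U)) (s : S)
    (e₃ : (Scheme.Modules.pullback ((toS f g).fiberι s)).obj L ≅ Coh.structureModule ((toS f g).fiber s)) :
    ∃ U : S.Opens, s ∈ U ∧
      Nonempty (L.restrict ((toS f g) ⁻¹ᵁ U).ι ≅ Coh.structureModule ((toS f g) ⁻¹ᵁ U).toScheme) := by
  haveI := ax.closed_u; haveI := ax.closed_v; haveI := ax.closed_τ
  obtain ⟨ea, eb, ed, ek, hK⟩ := ax.good_kernels hL e₁ e₂
  obtain ⟨qG, fG, pG⟩ := hK _ (List.mem_cons_of_mem _ (List.mem_cons_of_mem _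
    (List.mem_cons_of_mem _ (List.mem_cons_self ..))))
  obtain ⟨C, hsC, -, -, -, hz⟩ := CohExch.exists_zero_chart pG fG (V := ⊤) (s := s) trivial 1
    (ax.subsingleton_fiberH hL e₁ e₂ hOf hOg s e₃)
  let h := toS f g
  let W := h ⁻¹ᵁ C.U
  have hG : Subsingleton (Coh.HH W.toScheme ((kerCube ax e₁ e₂).restrict W.ι) 1) := by
    letI := CohExch.overSections h C.hU
    haveI := hz
    exact (C.data.hhHomology 1).toEquiv.subsingleton
  let R := Scheme.Modules.restrictFunctor W.ι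
  haveI : PreservesFiniteLimits R :=
    haveI : R.IsRightAdjoint := inferInstance
    inferInstance
  haveI : PreservesFiniteColimits R := inferInstance
  haveI : R.Additive := Functor.additive_of_preserves_binary_products _
  have hsurj : ∀ V : (pullback f g).Opens, V = W → Function.Surjective ((toMeet v τ).app V) := by
    rintro V rfl
    intro c
    let c' : Γ(S, τ ⁻¹ᵁ (v ⁻¹ᵁ W)) := c
    have hgW : v ⁻¹ᵁ W ≤ g ⁻¹ᵁ C.U := fun y hy => by
      show g y ∈ C.U
      rw [show g y = (toS f g) (v y) by rw [← Scheme.Hom.comp_apply, ax.v_toS]]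
      exact hy
    have hCW : C.U ≤ τ ⁻¹ᵁ (v ⁻¹ᵁ W) := fun y hy => by
      show (toS f g) (v (τ y)) ∈ C.U
      rw [← Scheme.Hom.comp_apply v, ax.v_toS, ← Scheme.Hom.comp_apply τ, ax.hτ]
      exact hy
    refine ⟨(show Γ(Y, v ⁻¹ᵁ W) from g.appLE C.U (v ⁻¹ᵁ W) hgW (res hCW c')), ?_⟩
    show τ.app (v ⁻¹ᵁ W) (g.appLE C.U (v ⁻¹ᵁ W) hgW (S.presheaf.map (homOfLE hCW).op c')) = c'
    rw [← ConcreteCategory.comp_apply (g.appLE _ _ _), Scheme.Hom.app_eq_appLE, Scheme.Hom.appLE_comp_appLE]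
    have key : ∀ (φ : S ⟶ S) (_ : φ = 𝟙 S) (hh : τ ⁻¹ᵁ (v ⁻¹ᵁ W) ≤ φ ⁻¹ᵁ C.U),
        φ.appLE C.U _ hh (S.presheaf.map (homOfLE hCW).op c') = c' := by
      rintro φ rfl hh
      rw [← ConcreteCategory.comp_apply, Scheme.Hom.map_appLE]
      simp [Scheme.Hom.appLE]
      exact congr($(S.presheaf.map_id _) c')
    exact key _ ax.hτ _
  have hd : Function.Surjective ((R.map (toMeet v τ)).app ⊤) := hsurj (W.ι ''ᵁ ⊤) (Scheme.Opens.ι_image_top W)
  have ha : Function.Surjective ((R.map (toPush u e₁)).app ⊤) := by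
    refine surjective_of_subsingleton ((shortExact_kernel (toPush u e₁)).map_of_exact R)
      ((shortExact_kernel (kerToKer e₁ e₂ ax.meet)).map_of_exact R)
      ((shortExact_kernel (toMeet v τ)).map_of_exact R) (R.map (toPush v e₂)) ?_ hG hd
    show R.map _ ≫ R.map _ = R.map _ ≫ R.map _
    rw [← R.map_comp, ← R.map_comp, kerToKer_ι]
  have hW : ∀ V : (pullback f g).Opens, Function.Surjective ((toPush u e₁).app V) → V = W →
      ∃ t : Γ(L, W), asFun u W ((toPush u e₁).app W t) = 1 := by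
    rintro V hV rfl
    exact hV (show Γ(X, u ⁻¹ᵁ W) from 1)
  obtain ⟨t, ht⟩ := hW (W.ι ''ᵁ ⊤) ha (Scheme.Opens.ι_image_top W)
  -- the fibre
  let k := S.residueField s
  let Z := fibOver f s ⊗ fibOver g s
  let E := (isPullback_prodι f g s).isoPullback
  let eι : (Scheme.Modules.pullback (prodι f g s)).obj L ≅ Coh.structureModule Z.left :=
    ((Scheme.Modules.pullbackCongr (isPullback_prodι f g s).isoPullback_hom_fst).app L).symm ≪≫
      ((Scheme.Modules.pullbackComp E.hom (h.fiberι s)).app L).symm ≪≫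
      (Scheme.Modules.pullback E.hom).mapIso e₃ ≪≫ pullOne E.hom
  have hsW : ∀ z : Z.left, prodι f g s z ∈ W := fun z => by
    show h (prodι f g s z) ∈ C.U
    rw [← Scheme.Hom.comp_apply, (isPullback_prodι f g s).w, Scheme.Hom.comp_apply,
      Scheme.fromSpecResidueField_apply]
    exact hsC
  let Rt : Γ(Z.left, prodι f g s ⁻¹ᵁ W) := asFun (prodι f g s) W ((toPush (prodι f g s) eι).app W t)
  haveI : IsProper (f.fiberToSpecResidueField s) := MorphismProperty.pullback_snd (P := @IsProper) _ _ inferInstance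
  haveI : CompactSpace (fibOver f s).left := QuasiCompact.compactSpace_of_compactSpace (f.fiberToSpecResidueField s)
  haveI : QuasiSeparatedSpace (fibOver f s).left :=
    (HasAffineProperty.iff_of_isAffine (P := @QuasiSeparated) (f := f.fiberToSpecResidueField s)).mp inferInstance
  haveI := hOf _ (S.fromSpecResidueField s) ⊤
  haveI := hOg _ (S.fromSpecResidueField s) ⊤
  have hZ := bijective_algebraMap_of_appTop (X := Z) (bijective_hom_appTop_prod _ _
    (ConcreteCategory.bijective_of_isIso ((pullback.snd f (S.fromSpecResidueField s)).app ⊤))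
    (ConcreteCategory.bijective_of_isIso ((pullback.snd g (S.fromSpecResidueField s)).app ⊤)))
  have htop : (⊤ : Z.left.Opens) ≤ prodι f g s ⁻¹ᵁ W := fun z _ => hsW z
  obtain ⟨c, hc⟩ := hZ.2 (res htop Rt)
  have hbo : ∀ z : Z.left, z ∈ Z.left.basicOpen Rt ↔ z ∈ Z.left.basicOpen (algebraMap k Γ(Z.left, ⊤) c) := fun z => by
    rw [hc, Scheme.basicOpen_res]
    exact ⟨fun h => ⟨trivial, h⟩, fun h => h.2⟩
  let z₀ : Z.left := (lift (𝟙 (fibOver f s)) (toUnit (fibOver f s) ≫ fibPt g ax.hτ s)).left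
    ((fibPt f ax.hσ s).left (IsLocalRing.closedPoint k))
  have hc0 : c ≠ 0 := by
    rintro rfl
    let x₁ := f.fiberι s ((fibPt f ax.hσ s).left (IsLocalRing.closedPoint k))
    have hux : u x₁ = prodι f g s z₀ := by
      rw [← Scheme.Hom.comp_apply, (isPullback_axis_u ax.hτ ax.hu1 ax.hu2 s).w]
      rfl
    have h1 : GenNear L t (u x₁) := (genNear_iff u hL e₁ t x₁ (hux ▸ hsW z₀)).2 (by
      rw [ht, X.basicOpen_of_isUnit isUnit_one]
      exact (hux ▸ hsW z₀ : u x₁ ∈ W))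
    rw [hux] at h1
    have h2 := (hbo z₀).1 ((genNear_iff (prodι f g s) hL eι t z₀ (hsW z₀)).1 h1)
    rw [map_zero, Scheme.basicOpen_zero] at h2
    exact h2
  have hfib : ∀ p : (pullback f g : Scheme.{u}), h p = s → GenNear L t p := by
    intro p hp
    obtain ⟨q, rfl⟩ : p ∈ Set.range (h.fiberι s) := by
      rw [Scheme.Hom.range_fiberι]
      exact hp
    obtain ⟨z, rfl⟩ : q ∈ Set.range E.hom := E.hom.homeomorph.surjective q
    rw [show h.fiberι s (E.hom z) = prodι f g s z from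
      congrArg (fun φ : Z.left ⟶ pullback f g => φ z) (isPullback_prodι f g s).isoPullback_hom_fst]
    refine (genNear_iff (prodι f g s) hL eι t z (hsW z)).2 ((hbo z).2 ?_)
    rw [Scheme.basicOpen_of_isUnit _ ((Ne.isUnit hc0).map (algebraMap k Γ(Z.left, ⊤)))]
    trivial
  let U : S.Opens := C.U ⊓ ⟨(h '' {z | GenNear L t z}ᶜ)ᶜ,
    (h.isClosedMap _ (isOpen_genNear L t).isClosed_compl).isOpen_compl⟩
  refine ⟨U, ⟨hsC, fun ⟨p, hp, hps⟩ => hp (hfib p hps)⟩, nonempty_restrict_iso (L := L)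
    (s := resM L (h.preimage_mono (inf_le_left : U ≤ C.U)) t) ?_⟩
  have hgen : ∀ p : (h ⁻¹ᵁ U : (pullback f g).Opens), GenNear L t p.1 := fun p => by
    by_contra hn
    exact p.2.2 ⟨p.1, hn, rfl⟩
  choose V hV hpV hVg using hgen
  refine isGen_of_cover (fun p => V p ⊓ h ⁻¹ᵁ U) (fun p => inf_le_right)
    (fun p hp => Opens.mem_iSup.2 ⟨⟨p, hp⟩, hpV ⟨p, hp⟩, hp⟩) fun p => ?_
  have := (hVg p).restrict (inf_le_left : V p ⊓ h ⁻¹ᵁ U ≤ V p)
  rw [resM_resM] at this ⊢
  exact this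

end Groth.Agent.FlatMor12.Cube
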