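import Groth.Agent.FlatMor12.Cube.Fibre

/-!
# Vanishing of the first cohomology of the kernel sheaf on the fibres where the module is trivial
-/

set_option autoImplicit false
set_option linter.style.haveILetI false
set_option backward.isDefEq.respectTransparency.types false
set_option maxHeartbeats 1000000

universe u

open CategoryTheory CategoryTheory.Limits MonoidalCategory CartesianMonoidalCategory AlgebraicGeometry Opposite
  TopologicalSpace
open Groth.Agent.Coherent Groth.Agent.PicLib Groth.Agent.CubeLib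

namespace Groth.Agent.FlatMor12.Cube

theorem shortExact_kernel {P : Scheme.{u}} {M N : P.Modules} (φ : M ⟶ N) [Epi φ] :
    (ShortComplex.mk (kernel.ι φ) φ (kernel.condition φ)).ShortExact :=
  { exact := ShortComplex.exact_of_f_is_kernel _ (kernelIsKernel φ) }

/-- A short exact sequence with flat quotient stays exact on a fibre. -/
theorem shortExact_fiberι {P S : Scheme.{u}} (π : P ⟶ S) [LocallyOfFinitePresentation π]
    {Q : ShortComplex P.Modules} (hQ : Q.ShortExact) [Coh.IsQCoh Q.X₁] [Coh.IsQCoh Q.X₂] (h₁ : CohB1.IsFP Q.X₁)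
    (h₂ : CohB1.IsFP Q.X₂) (hf₂ : FlatMod.IsFlatOver π Q.X₂) (hf₃ : FlatMod.IsFlatOver π Q.X₃) (s : S) :
    (Q.map (Scheme.Modules.pullback (π.fiberι s))).ShortExact := by
  haveI := hQ.mono_f
  have hc : FlatMod.IsFlatOver π (cokernel Q.f) :=
    CohExch.isFlatOver_of_iso π (hQ.gIsCokernel.coconePointUniqueUpToIso (colimit.isColimit (parallelPair Q.f 0))) hf₃
  obtain ⟨hex, hepi⟩ := CohBC.pullback_exact_of_shortExact (π.fiberι s) Q hQ
  exact { exact := hex, mono_f := Quot8.mono_pullback_fiberι π Q.f h₂ h₁ hf₂ hc s, epi_g := hepi }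

/-- The data of two sections and the slices through them. -/
structure Axes {X Y S : Scheme.{u}} (f : X ⟶ S) (g : Y ⟶ S) (σ : S ⟶ X) (τ : S ⟶ Y) (u : X ⟶ pullback f g)
    (v : Y ⟶ pullback f g) : Prop where
  hσ : σ ≫ f = 𝟙 S
  hτ : τ ≫ g = 𝟙 S
  hu1 : u ≫ pullback.fst f g = 𝟙 X
  hu2 : u ≫ pullback.snd f g = f ≫ τ
  hv1 : v ≫ pullback.fst f g = g ≫ σ
  hv2 : v ≫ pullback.snd f g = 𝟙 Y

variable {X Y S : Scheme.{u}} {f : X ⟶ S} {g : Y ⟶ S} {σ : S ⟶ X} {τ : S ⟶ Y} {u : X ⟶ pullback f g}
  {v : Y ⟶ pullback f g} (ax : Axes f g σ τ u v)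
include ax

theorem Axes.meet : σ ≫ u = τ ≫ v := by
  apply pullback.hom_ext
  · rw [Category.assoc, ax.hu1, Category.comp_id, Category.assoc, ax.hv1, ← Category.assoc, ax.hτ, Category.id_comp]
  · rw [Category.assoc, ax.hu2, ← Category.assoc, ax.hσ, Category.id_comp, Category.assoc, ax.hv2, Category.comp_id]

theorem Axes.u_toS : u ≫ toS f g = f := by rw [← Category.assoc, ax.hu1, Category.id_comp]

theorem Axes.v_toS : v ≫ toS f g = g := by
  rw [← Category.assoc, ax.hv1, Category.assoc, ax.hσ, Category.comp_id]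

theorem Axes.closed_u [IsSeparated g] : IsClosedImmersion u := by
  haveI : IsClosedImmersion (u ≫ pullback.fst f g) := by rw [ax.hu1]; infer_instance
  exact IsClosedImmersion.of_comp u (pullback.fst f g)

theorem Axes.closed_v [IsSeparated f] : IsClosedImmersion v := by
  haveI : IsClosedImmersion (v ≫ pullback.snd f g) := by rw [ax.hv2]; infer_instance
  exact IsClosedImmersion.of_comp v (pullback.snd f g)

theorem Axes.closed_τ [IsSeparated g] : IsClosedImmersion τ := by
  haveI : IsClosedImmersion (τ ≫ g) := by rw [ax.hτ]; infer_instance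
  exact IsClosedImmersion.of_comp τ g

variable [Flat f] [IsProper f] [LocallyOfFinitePresentation f] [Flat g] [IsProper g] [LocallyOfFinitePresentation g]

theorem Axes.lfp_u : LocallyOfFinitePresentation u := by
  haveI : LocallyOfFinitePresentation (u ≫ pullback.fst f g) := by rw [ax.hu1]; infer_instance
  exact EGA43.Limit.locallyOfFinitePresentation_of_comp u (pullback.fst f g)

theorem Axes.lfp_v : LocallyOfFinitePresentation v := by
  haveI : LocallyOfFinitePresentation (v ≫ pullback.snd f g) := by rw [ax.hv2]; infer_instance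
  exact EGA43.Limit.locallyOfFinitePresentation_of_comp v (pullback.snd f g)

theorem Axes.lfp_τ : LocallyOfFinitePresentation τ := by
  haveI : LocallyOfFinitePresentation (τ ≫ g) := by rw [ax.hτ]; infer_instance
  exact EGA43.Limit.locallyOfFinitePresentation_of_comp τ g

/-- The three targets are quasi-coherent, flat and finitely presented. -/
theorem Axes.good_targets :
    (∀ M : (pullback f g).Modules, M ∈ [(Scheme.Modules.pushforward u).obj (Coh.structureModule X),
        (Scheme.Modules.pushforward v).obj (Coh.structureModule Y),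
        (Scheme.Modules.pushforward v).obj ((Scheme.Modules.pushforward τ).obj (Coh.structureModule S))] →
      Coh.IsQCoh M ∧ FlatMod.IsFlatOver (toS f g) M ∧ CohB1.IsFP M) := by
  haveI := ax.closed_u; haveI := ax.closed_v; haveI := ax.closed_τ
  haveI := ax.lfp_u; haveI := ax.lfp_v; haveI := ax.lfp_τ
  haveI := isQCoh_structureModule (X := X)
  haveI := isQCoh_structureModule (X := Y)
  haveI := isQCoh_structureModule (X := S)
  haveI := isQCoh_push τ (Coh.structureModule S)
  haveI : IsFinite u := inferInstance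
  intro M hM
  simp only [List.mem_cons, List.not_mem_nil, or_false] at hM
  rcases hM with rfl | rfl | rfl
  · refine ⟨isQCoh_push u _, (VarietyLib.isFlatOver_push_iff u (toS f g) _).2 ?_,
      (Groth.Agent.S1178.result u _).1 (EGA43.FibDepth.isFP_structureModule X)⟩
    rw [ax.u_toS]
    exact Clifford24.isFlatOver_structure f
  · refine ⟨isQCoh_push v _, (VarietyLib.isFlatOver_push_iff v (toS f g) _).2 ?_,
      (Groth.Agent.S1178.result v _).1 (EGA43.FibDepth.isFP_structureModule Y)⟩
    rw [ax.v_toS]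
    exact Clifford24.isFlatOver_structure g
  · refine ⟨isQCoh_push v _, (VarietyLib.isFlatOver_push_iff v (toS f g) _).2 ?_,
      (Groth.Agent.S1178.result v _).1 ((Groth.Agent.S1178.result τ _).1 (EGA43.FibDepth.isFP_structureModule S))⟩
    rw [ax.v_toS]
    refine (VarietyLib.isFlatOver_push_iff τ g _).2 ?_
    rw [ax.hτ]
    exact Clifford24.isFlatOver_structure (𝟙 S)

variable {L : (pullback f g).Modules} (hL : PicF.IsInvertible L)
  (e₁ : (Scheme.Modules.pullback u).obj L ≅ Coh.structureModule X)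
  (e₂ : (Scheme.Modules.pullback v).obj L ≅ Coh.structureModule Y)

/-- The kernel of `L` restricted to both slices. -/
noncomputable abbrev kerCube : (pullback f g).Modules := kernel (kerToKer e₁ e₂ ax.meet)

include hL

/-- The kernels are quasi-coherent, flat and finitely presented, and the three sequences are exact. -/
theorem Axes.good_kernels :
    Epi (toPush u e₁) ∧ Epi (toPush v e₂) ∧ Epi (toMeet v τ) ∧ Epi (kerToKer e₁ e₂ ax.meet) ∧
    ∀ M : (pullback f g).Modules, M ∈ [L, kernel (toPush u e₁), kernel (toMeet v τ), kerCube ax e₁ e₂] →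
      Coh.IsQCoh M ∧ FlatMod.IsFlatOver (toS f g) M ∧ CohB1.IsFP M := by
  haveI := ax.closed_u; haveI := ax.closed_v; haveI := ax.closed_τ
  have hT := ax.good_targets
  obtain ⟨qA, fA, pA⟩ := hT _ (List.mem_cons_self ..)
  obtain ⟨qB, fB, pB⟩ := hT _ (List.mem_cons_of_mem _ (List.mem_cons_self ..))
  obtain ⟨qC, fC, pC⟩ := hT _ (List.mem_cons_of_mem _ (List.mem_cons_of_mem _ (List.mem_cons_self ..)))
  haveI : Flat (toS f g) := inferInstance
  have ea := epi_toPush u _ ax.hu1 hL e₁
  have eb := epi_toPush v _ ax.hv2 hL e₂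
  have ed : Epi (toMeet v τ) := by
    haveI := epi_unitToPush τ g ax.hτ
    haveI : PreservesFiniteColimits (Scheme.Modules.pushforward v) := preservesFiniteColimits_push v
    infer_instance
  have ek := epi_kerToKer e₁ e₂ hL ax.meet ax.hu2 ax.hv2
  have qL : Coh.IsQCoh L := H8Coh.FibreAmple.isQCoh_of_invertible hL
  have fL : FlatMod.IsFlatOver (toS f g) L := CohBC.isFlatOver_of_isFinLocFree (toS f g) fun x =>
    let ⟨U, hx, e⟩ := PicLib.isFinLocFreeOfRank_one hL x
    ⟨U, 1, hx, e⟩
  have pL : CohB1.IsFP L := H8Coh.FibreAmple.isFP_of_invertible hL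
  have q1 := isQCoh_kernel (toPush u e₁)
  have p1 := EGA43.FPKernel.isFP_kernel (toS f g) pL pA fA (toPush u e₁)
  have f1 := Quot8.isFlatOver_of_shortExact (toS f g) (shortExact_kernel (toPush u e₁)) fL fA
  have qN := isQCoh_kernel (toMeet v τ)
  have pN := EGA43.FPKernel.isFP_kernel (toS f g) pB pC fC (toMeet v τ)
  have fN := Quot8.isFlatOver_of_shortExact (toS f g) (shortExact_kernel (toMeet v τ)) fB fC
  refine ⟨ea, eb, ed, ek, fun M hM => ?_⟩
  simp only [List.mem_cons, List.not_mem_nil, or_false] at hM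
  rcases hM with rfl | rfl | rfl | rfl
  exacts [⟨qL, fL, pL⟩, ⟨q1, f1, p1⟩, ⟨qN, fN, pN⟩,
    ⟨isQCoh_kernel _, Quot8.isFlatOver_of_shortExact (toS f g) (shortExact_kernel (kerToKer e₁ e₂ ax.meet)) f1 fN,
      EGA43.FPKernel.isFP_kernel (toS f g) p1 pN fN (kerToKer e₁ e₂ ax.meet)⟩]

/-- The kernel has no first cohomology on a fibre where `L` is trivial. -/
theorem Axes.subsingleton_fiberH
    (hOf : ∀ (T : Scheme.{u}) (t : T ⟶ S) (U : T.Opens), IsIso ((pullback.snd f t).app U))
    (hOg : ∀ (T : Scheme.{u}) (t : T ⟶ S) (U : T.Opens), IsIso ((pullback.snd g t).app U)) (s : S)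
    (e₃ : (Scheme.Modules.pullback ((toS f g).fiberι s)).obj L ≅ Coh.structureModule ((toS f g).fiber s)) :
    Subsingleton (CohIII.fiberH (toS f g) (kerCube ax e₁ e₂) s 1) := by
  haveI := ax.closed_u; haveI := ax.closed_v; haveI := ax.closed_τ
  obtain ⟨ea, eb, ed, ek, hK⟩ := ax.good_kernels hL e₁ e₂
  obtain ⟨qA, fA, pA⟩ := ax.good_targets _ (List.mem_cons_self ..)
  obtain ⟨qB, fB, pB⟩ := ax.good_targets _ (List.mem_cons_of_mem _ (List.mem_cons_self ..))
  obtain ⟨qC, fC, pC⟩ := ax.good_targets _ (List.mem_cons_of_mem _ (List.mem_cons_of_mem _ (List.mem_cons_self ..)))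
  obtain ⟨qL, fL, pL⟩ := hK _ (List.mem_cons_self ..)
  obtain ⟨q1, f1, p1⟩ := hK _ (List.mem_cons_of_mem _ (List.mem_cons_self ..))
  obtain ⟨qN, fN, pN⟩ := hK _ (List.mem_cons_of_mem _ (List.mem_cons_of_mem _ (List.mem_cons_self ..)))
  obtain ⟨qG, fG, pG⟩ := hK _ (List.mem_cons_of_mem _ (List.mem_cons_of_mem _
    (List.mem_cons_of_mem _ (List.mem_cons_self ..))))
  let h := toS f g
  let k := S.residueField s
  let Z := fibOver f s ⊗ fibOver g s
  let E := (isPullback_prodι f g s).isoPullback
  let Φ : (pullback f g).Modules ⥤ Z.left.Modules :=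
    Scheme.Modules.pullback (h.fiberι s) ⋙ Scheme.Modules.pullback E.hom
  haveI : PreservesFiniteLimits (Scheme.Modules.pullback E.hom) := DCat.FlatPull.preservesFiniteLimits_pullback _
  haveI : PreservesFiniteColimits (Scheme.Modules.pullback E.hom) :=
    haveI := (Scheme.Modules.pullbackPushforwardAdjunction E.hom).isLeftAdjoint
    inferInstance
  haveI : (Scheme.Modules.pullback E.hom).Additive := Functor.additive_of_preserves_binary_products _
  have hses : ∀ (Q : ShortComplex (pullback f g).Modules), Q.ShortExact → ∀ [Coh.IsQCoh Q.X₁] [Coh.IsQCoh Q.X₂],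
      CohB1.IsFP Q.X₁ → CohB1.IsFP Q.X₂ → FlatMod.IsFlatOver h Q.X₂ → FlatMod.IsFlatOver h Q.X₃ →
      (Q.map Φ).ShortExact := fun Q hQ _ _ h₁ h₂ hf₂ hf₃ =>
    (shortExact_fiberι h hQ h₁ h₂ hf₂ hf₃ s).map_of_exact (Scheme.Modules.pullback E.hom)
  have S1 := hses _ (shortExact_kernel (toPush u e₁)) p1 pL fL fA
  have S2 := hses _ (shortExact_kernel (kerToKer e₁ e₂ ax.meet)) pG p1 f1 fN
  have S3 := hses _ (shortExact_kernel (toMeet v τ)) pN pB fB fC
  haveI : Φ.IsLeftAdjoint :=
    (((Scheme.Modules.pullbackPushforwardAdjunction (h.fiberι s)).comp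
      (Scheme.Modules.pullbackPushforwardAdjunction E.hom))).isLeftAdjoint
  haveI : Epi (Φ.map (toPush v e₂)) := inferInstance
  let ΦI : Φ ≅ Scheme.Modules.pullback (prodι f g s) :=
    Scheme.Modules.pullbackComp E.hom (h.fiberι s) ≪≫
      Scheme.Modules.pullbackCongr (isPullback_prodι f g s).isoPullback_hom_fst
  let iu := (lift (𝟙 (fibOver f s)) (toUnit (fibOver f s) ≫ fibPt g ax.hτ s)).left
  let iv := (lift (toUnit (fibOver g s) ≫ fibPt f ax.hσ s) (𝟙 (fibOver g s))).left
  have Pu := isPullback_axis_u ax.hτ ax.hu1 ax.hu2 s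
  have Pv := isPullback_axis_v ax.hσ ax.hv1 ax.hv2 s
  have Pτ := isPullback_fibPt ax.hτ s
  haveI : IsClosedImmersion iu := MorphismProperty.of_isPullback (P := @IsClosedImmersion) Pu inferInstance
  haveI : IsClosedImmersion iv := MorphismProperty.of_isPullback (P := @IsClosedImmersion) Pv inferInstance
  haveI : IsClosedImmersion (fibPt g ax.hτ s).left :=
    MorphismProperty.of_isPullback (P := @IsClosedImmersion) Pτ inferInstance
  obtain ⟨cu⟩ := FlatCx12.ClosedBC.nonempty_pullback_push Pu
  obtain ⟨cv⟩ := FlatCx12.ClosedBC.nonempty_pullback_push Pv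
  obtain ⟨cτ⟩ := FlatCx12.ClosedBC.nonempty_pullback_push Pτ
  let eA := ΦI.app ((Scheme.Modules.pushforward u).obj (Coh.structureModule X)) ≪≫ cu.app (Coh.structureModule X) ≪≫
    (Scheme.Modules.pushforward iu).mapIso (pullOne (f.fiberι s))
  let eB := ΦI.app ((Scheme.Modules.pushforward v).obj (Coh.structureModule Y)) ≪≫ cv.app (Coh.structureModule Y) ≪≫
    (Scheme.Modules.pushforward iv).mapIso (pullOne (g.fiberι s))
  let eC := ΦI.app ((Scheme.Modules.pushforward v).obj ((Scheme.Modules.pushforward τ).obj (Coh.structureModule S))) ≪≫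
    cv.app _ ≪≫ (Scheme.Modules.pushforward iv).mapIso (cτ.app (Coh.structureModule S) ≪≫
      (Scheme.Modules.pushforward (fibPt g ax.hτ s).left).mapIso (pullOne (S.fromSpecResidueField s)))
  let eL := (Scheme.Modules.pullback E.hom).mapIso e₃ ≪≫ pullOne E.hom
  have hC : Nontrivial Γ(Φ.obj ((Scheme.Modules.pushforward v).obj
      ((Scheme.Modules.pushforward τ).obj (Coh.structureModule S))), (⊤ : Z.left.Opens)) := by
    haveI : Nontrivial Γ(Spec (CommRingCat.of k), ⊤) :=
      (ConcreteCategory.bijective_of_isIso (Scheme.ΓSpecIso (CommRingCat.of k)).inv).1.nontrivial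
    exact @Function.Surjective.nontrivial _ _ this _ (ConcreteCategory.bijective_of_isIso (eC.hom.app ⊤)).2
  haveI : CompactSpace (fibOver f s).left :=
    haveI : IsProper (f.fiberToSpecResidueField s) := MorphismProperty.pullback_snd (P := @IsProper) _ _ inferInstance
    QuasiCompact.compactSpace_of_compactSpace (f.fiberToSpecResidueField s)
  haveI : CompactSpace (fibOver g s).left :=
    haveI : IsProper (g.fiberToSpecResidueField s) := MorphismProperty.pullback_snd (P := @IsProper) _ _ inferInstance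
    QuasiCompact.compactSpace_of_compactSpace (g.fiberToSpecResidueField s)
  haveI : IsSeparated (fibOver f s).hom := MorphismProperty.pullback_snd (P := @IsSeparated) _ _ inferInstance
  haveI : IsSeparated (fibOver g s).hom := MorphismProperty.pullback_snd (P := @IsSeparated) _ _ inferInstance
  haveI hif := hOf _ (S.fromSpecResidueField s) ⊤
  haveI hig := hOg _ (S.fromSpecResidueField s) ⊤
  have hX := bijective_algebraMap_of_appTop (X := fibOver f s)
    (ConcreteCategory.bijective_of_isIso ((pullback.snd f (S.fromSpecResidueField s)).app ⊤))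
  have hY := bijective_algebraMap_of_appTop (X := fibOver g s)
    (ConcreteCategory.bijective_of_isIso ((pullback.snd g (S.fromSpecResidueField s)).app ⊤))
  have key : Subsingleton (Coh.HH Z.left (Φ.obj (kerCube ax e₁ e₂)) 1) :=
    subsingleton_HH_of_axes hX hY (fibPt f ax.hσ s) (fibPt g ax.hτ s) S1 S2 S3 (Φ.map (toPush v e₂))
      (by
        show Φ.map _ ≫ Φ.map _ = Φ.map _ ≫ Φ.map _
        rw [← Φ.map_comp, ← Φ.map_comp, kerToKer_ι]) eL eA eB hC
  -- back to the fibre
  haveI : IsProper (h.fiberToSpecResidueField s) := MorphismProperty.pullback_snd (P := @IsProper) _ _ inferInstance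
  rw [CohExch.subsingleton_fiberH_iff_rank pG]
  haveI : Coh.IsQCoh (CohIII.fiberMod h (kerCube ax e₁ e₂) s) := EGA43.InjFibre.isQCoh_pullback _ _
  haveI : CompactSpace (h.fiber s) := QuasiCompact.compactSpace_of_compactSpace (h.fiberToSpecResidueField s)
  haveI : QuasiSeparatedSpace (h.fiber s) :=
    (HasAffineProperty.iff_of_isAffine (P := @QuasiSeparated) (f := h.fiberToSpecResidueField s)).mp inferInstance
  have hid : Spec.map (CommRingCat.ofHom (RingHom.id k)) = 𝟙 (Spec (CommRingCat.of k)) := Spec.map_id _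
  have hsq0 : ∀ φ : Spec (CommRingCat.of k) ⟶ Spec (CommRingCat.of k), φ = 𝟙 _ →
      IsPullback E.hom Z.hom (h.fiberToSpecResidueField s) φ := by
    rintro φ rfl
    exact IsPullback.of_horiz_isIso ⟨(isPullback_prodι f g s).isoPullback_hom_snd.trans (Category.comp_id _).symm⟩
  have hsq := hsq0 _ hid
  refine (CohBC.finrank_HH_bc k k (RingHom.id k) (h.fiberToSpecResidueField s) Z.hom E.hom hsq
    (CohIII.fiberMod h (kerCube ax e₁ e₂) s) (Φ.obj (kerCube ax e₁ e₂)) (Iso.refl _) 1).symm.trans ?_
  exact @Module.finrank_zero_of_subsingleton _ _ _ _ _ _ key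

end Groth.Agent.FlatMor12.Cube
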