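import Groth.Agent.S16956
import Groth.Agent.CohExch.FlatBC0
import Groth.Agent.CohExch.LocalSub
import Groth.Agent.FlatMor12.FreeFibres
import Groth.Agent.FlatMor12.IsoLocusMod
import Groth.Agent.FlatMor12.Cube.Scalar
import Groth.Agent.CubeLib.FibrewiseTriv
import Groth.Agent.FlatMorAdm.LocFreeApps

/-!
# The see-saw subscheme of a vector bundle
-/

set_option autoImplicit false
set_option linter.style.haveILetI false
set_option linter.unusedSectionVars false
set_option backward.isDefEq.respectTransparency false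
set_option maxHeartbeats 1000000

universe u

open CategoryTheory CategoryTheory.Limits AlgebraicGeometry Opposite TopologicalSpace
open Groth.Agent.Coherent Groth.Agent.PicLib Groth.Agent.FlatMor12.FlatFun Groth.Agent.CAlgH3.LocFreeFactor

namespace Groth.Agent.FlatMor12.Cube.VectorSeesaw

variable {X S : Scheme.{u}}

/-- An isomorphism of pullbacks, pulled back further. -/
noncomputable def transport {A B P Q : Scheme.{u}} {E : A.Modules} {M : B.Modules} {g : P ⟶ A} {h : P ⟶ B}
    (a : Q ⟶ P) {g' : Q ⟶ A} {h' : Q ⟶ B} (hg : a ≫ g = g') (hh : a ≫ h = h')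
    (e : (Scheme.Modules.pullback g).obj E ≅ (Scheme.Modules.pullback h).obj M) :
    (Scheme.Modules.pullback g').obj E ≅ (Scheme.Modules.pullback h').obj M :=
  ((Scheme.Modules.pullbackCongr hg).app E).symm ≪≫ ((Scheme.Modules.pullbackComp a g).app E).symm ≪≫
    (Scheme.Modules.pullback a).mapIso e ≪≫ (Scheme.Modules.pullbackComp a h).app M ≪≫
      (Scheme.Modules.pullbackCongr hh).app M

/-- The condition that the pullback of `E` comes from a vector bundle on the base. -/
def Cond (f : X ⟶ S) (E : X.Modules) (T : Scheme.{u}) (u : T ⟶ S) : Prop :=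
  ∃ M : T.Modules, FlatMod.IsFinLocFree M ∧
    Nonempty ((Scheme.Modules.pullback (pullback.fst f u)).obj E ≅ (Scheme.Modules.pullback (pullback.snd f u)).obj M)

variable {f : X ⟶ S} {E : X.Modules}

theorem cond_of_square {T X' : Scheme.{u}} {u : T ⟶ S} {g' : X' ⟶ X} {f' : X' ⟶ T} (h : IsPullback g' f' f u)
    {M : T.Modules} (hM : FlatMod.IsFinLocFree M)
    (e : (Scheme.Modules.pullback g').obj E ≅ (Scheme.Modules.pullback f').obj M) : Cond f E T u :=
  ⟨M, hM, ⟨transport h.isoPullback.inv h.isoPullback_inv_fst h.isoPullback_inv_snd e⟩⟩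

theorem Cond.square {T X' : Scheme.{u}} {u : T ⟶ S} {g' : X' ⟶ X} {f' : X' ⟶ T} (h : IsPullback g' f' f u)
    (hc : Cond f E T u) : ∃ M : T.Modules, FlatMod.IsFinLocFree M ∧
      Nonempty ((Scheme.Modules.pullback g').obj E ≅ (Scheme.Modules.pullback f').obj M) := by
  obtain ⟨M, hM, ⟨e⟩⟩ := hc
  exact ⟨M, hM, ⟨transport h.isoPullback.hom h.isoPullback_hom_fst h.isoPullback_hom_snd e⟩⟩

theorem Cond.precomp {T T' : Scheme.{u}} (t : T' ⟶ T) {u : T ⟶ S} (hc : Cond f E T u) : Cond f E T' (t ≫ u) := by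
  obtain ⟨M, hM, ⟨e⟩⟩ := hc
  let a : pullback f (t ≫ u) ⟶ pullback f u :=
    pullback.lift (pullback.fst f (t ≫ u)) (pullback.snd f (t ≫ u) ≫ t) (by rw [Category.assoc]; exact pullback.condition)
  exact ⟨_, Groth.Agent.FlatMorAdm.isFinLocFree_pullback t hM,
    ⟨transport a (pullback.lift_fst _ _ _) (pullback.lift_snd _ _ _) e ≪≫
      ((Scheme.Modules.pullbackComp (pullback.snd f (t ≫ u)) t).app M).symm⟩⟩

/-- Triangle relation between base change and the counit. -/
theorem sq_comp_pullback_counit {X' S' : Scheme.{u}} {f : X ⟶ S} {g : S' ⟶ S} {f' : X' ⟶ S'} {g' : X' ⟶ X}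
    (w : g' ≫ f = f' ≫ g) (E : X.Modules) :
    ((Scheme.Modules.pullbackComp f' g).app ((Scheme.Modules.pushforward f).obj E) ≪≫
      (Scheme.Modules.pullbackCongr w.symm).app ((Scheme.Modules.pushforward f).obj E) ≪≫
      ((Scheme.Modules.pullbackComp g' f).app ((Scheme.Modules.pushforward f).obj E)).symm).hom ≫
        (Scheme.Modules.pullback g').map ((Scheme.Modules.pullbackPushforwardAdjunction f).counit.app E) =
      (Scheme.Modules.pullback f').map (CohBC.bc0 f g f' g' w E) ≫
        (Scheme.Modules.pullbackPushforwardAdjunction f').counit.app _ := by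
  let N := (Scheme.Modules.pushforward f).obj E
  let adj := Scheme.Modules.pullbackPushforwardAdjunction f'
  let sq := (Scheme.Modules.pullbackComp f' g).app N ≪≫ (Scheme.Modules.pullbackCongr w.symm).app N ≪≫
    ((Scheme.Modules.pullbackComp g' f).app N).symm
  have he : (adj.homEquiv _ _) (sq.hom ≫ (Scheme.Modules.pullback g').map
      ((Scheme.Modules.pullbackPushforwardAdjunction f).counit.app E)) = CohBC.bc0 f g f' g' w E := by
    refine RelVALib.hom_ext_pullSec g _ _ fun V _ m => ?_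
    rw [show sq.hom = (Scheme.Modules.pullbackComp f' g).hom.app N ≫
      (Scheme.Modules.pullbackCongr w.symm).hom.app N ≫
        (Scheme.Modules.pullbackComp g' f).inv.app N from rfl]
    simp only [Category.assoc]
    exact (H8Coh.adjointBC_app_pullSec f w E m).trans (CohExch.bc0_pullSec w E V m).symm
  rw [← he]
  exact ((adj.homEquiv_counit _ _ _).symm.trans (Equiv.symm_apply_apply _ _)).symm

theorem isIso_unit {P T : Scheme.{u}} {π : P ⟶ T} (hπ : ∀ V : T.Opens, Function.Bijective (π.app V))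
    {M : T.Modules} (hM : FlatMod.IsFinLocFree M) :
    IsIso ((Scheme.Modules.pullbackPushforwardAdjunction π).unit.app M) :=
  Scheme.Modules.Hom.isIso_iff_isIso_app.2 fun U =>
    (ConcreteCategory.isIso_iff_bijective _).2 (bijective_pullSec_of_isFinLocFree (σ := π) hπ hM U)

/-- The direct image of a pullback is the module. -/
noncomputable def pushIso {P T : Scheme.{u}} {π : P ⟶ T} (hπ : ∀ V : T.Opens, Function.Bijective (π.app V))
    {M : T.Modules} (hM : FlatMod.IsFinLocFree M) {G : P.Modules} (e : (Scheme.Modules.pullback π).obj M ≅ G) :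
    M ≅ (Scheme.Modules.pushforward π).obj G :=
  haveI := isIso_unit hπ hM
  asIso ((Scheme.Modules.pullbackPushforwardAdjunction π).unit.app M) ≪≫ (Scheme.Modules.pushforward π).mapIso e

/-- Degree zero base change for a module pulled back from the base. -/
theorem isIso_bc0_of_eq_pull {P T P' T' : Scheme.{u}} {π : P ⟶ T} {π' : P' ⟶ T'} {g : T' ⟶ T} {g' : P' ⟶ P}
    (w : g' ≫ π = π' ≫ g) (hπ : ∀ V : T.Opens, Function.Bijective (π.app V))
    (hπ' : ∀ V : T'.Opens, Function.Bijective (π'.app V))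
    {M : T.Modules} (hM : FlatMod.IsFinLocFree M) {G : P.Modules} (e : (Scheme.Modules.pullback π).obj M ≅ G) :
    IsIso (CohBC.bc0 π g π' g' w G) := by
  let M' := (Scheme.Modules.pullback g).obj M
  have hM' : FlatMod.IsFinLocFree M' := Groth.Agent.FlatMorAdm.isFinLocFree_pullback g hM
  let e' : (Scheme.Modules.pullback π').obj M' ≅ (Scheme.Modules.pullback g').obj G :=
    (Scheme.Modules.pullbackComp π' g).app M ≪≫ (Scheme.Modules.pullbackCongr w.symm).app M ≪≫
      ((Scheme.Modules.pullbackComp g' π).app M).symm ≪≫ (Scheme.Modules.pullback g').mapIso e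
  haveI := FreeFibres.isIso_counit_pullback π hπ hM e
  haveI := FreeFibres.isIso_counit_pullback π' hπ' hM' e'
  let A := (Scheme.Modules.pullback g).obj ((Scheme.Modules.pushforward π).obj G)
  let B := (Scheme.Modules.pushforward π').obj ((Scheme.Modules.pullback g').obj G)
  let φ : A ⟶ B := CohBC.bc0 π g π' g' w G
  haveI : IsIso ((Scheme.Modules.pullback π').map φ ≫
      (Scheme.Modules.pullbackPushforwardAdjunction π').counit.app ((Scheme.Modules.pullback g').obj G)) := by
    rw [← sq_comp_pullback_counit w G]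
    infer_instance
  haveI : IsIso ((Scheme.Modules.pullback π').map φ) :=
    IsIso.of_isIso_comp_right _
      ((Scheme.Modules.pullbackPushforwardAdjunction π').counit.app ((Scheme.Modules.pullback g').obj G))
  let adj := Scheme.Modules.pullbackPushforwardAdjunction π'
  haveI := isIso_unit hπ' (Groth.Agent.FlatMorAdm.isFinLocFree_of_iso
    ((Scheme.Modules.pullback g).mapIso (pushIso hπ hM e)) hM' : FlatMod.IsFinLocFree A)
  haveI := isIso_unit hπ' (Groth.Agent.FlatMorAdm.isFinLocFree_of_iso (pushIso hπ' hM' e') hM' : FlatMod.IsFinLocFree B)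
  have h := adj.unit.naturality φ
  have : φ = adj.unit.app A ≫ (Scheme.Modules.pushforward π').map ((Scheme.Modules.pullback π').map φ) ≫
      inv (adj.unit.app B) := by
    rw [← Category.assoc, IsIso.eq_comp_inv]
    exact h
  show IsIso φ
  rw [this]
  infer_instance

/-- A map of modules invertible on the members of a flat cover is invertible. -/
theorem isIso_of_flat_cover {ι : Type*} {P : ι → Scheme.{u}} {Q : Scheme.{u}} (j : ∀ i, P i ⟶ Q) [∀ i, Flat (j i)]
    (hj : ∀ q, ∃ i p, j i p = q) {A B : Q.Modules} (φ : A ⟶ B)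
    (h : ∀ i, IsIso ((Scheme.Modules.pullback (j i)).map φ)) : IsIso φ := by
  refine FlatFun.Kind.glob_of_stalks .bij φ fun q => ?_
  obtain ⟨i, p, rfl⟩ := hj q
  haveI := h i
  haveI : IsIso ((Scheme.Modules.pullback (j i) ⋙ DerSch.stalkFunctor (P i) p).map φ) :=
    Functor.map_isIso (DerSch.stalkFunctor (P i) p) _
  haveI : IsIso ((ModuleCat.extendScalars.{u, u, u} ((j i).stalkMap p).hom).map
      ((DerSch.stalkFunctor Q (j i p)).map φ)) :=
    (NatIso.isIso_map_iff (ModStalk.pullbackStalkIso (j i) p) φ).1 ‹_›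
  have hb := ConcreteCategory.bijective_of_isIso ((ModuleCat.extendScalars.{u, u, u} ((j i).stalkMap p).hom).map
    ((DerSch.stalkFunctor Q (j i p)).map φ))
  have hff := FlatFun.faithfullyFlat_stalkMap (j i) p
  algebraize [((j i).stalkMap p).hom]
  exact (Module.FaithfullyFlat.lTensor_bijective_iff_bijective _ ((P i).presheaf.stalk p)
    ((DerSch.stalkFunctor Q (j i p)).map φ).hom).1 hb

/-- Functions descend along every base change. -/
class UnivStein (f : X ⟶ S) : Prop where
  bij : ∀ {T X' : Scheme.{u}} {u : T ⟶ S} {g' : X' ⟶ X} {f' : X' ⟶ T}, IsPullback g' f' f u →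
    ∀ V : T.Opens, Function.Bijective (f'.app V)

instance univStein_of_geometrically (f : X ⟶ S) [IsProper f] [Flat f] [LocallyOfFinitePresentation f]
    [GeometricallyConnected f] [GeometricallyReduced f] : UnivStein f := by
  refine ⟨fun {T X' u g' f'} h V => ?_⟩
  haveI : IsProper f' := MorphismProperty.of_isPullback (P := @IsProper) h inferInstance
  haveI : Flat f' := MorphismProperty.of_isPullback (P := @Flat) h inferInstance
  haveI : LocallyOfFinitePresentation f' :=
    MorphismProperty.of_isPullback (P := @LocallyOfFinitePresentation) h inferInstance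
  haveI : GeometricallyConnected f' :=
    MorphismProperty.of_isPullback (P := @GeometricallyConnected) h inferInstance
  haveI : GeometricallyReduced f' :=
    MorphismProperty.of_isPullback (P := @GeometricallyReduced) h inferInstance
  haveI := isIso_app_of_scalar f' (CubeLib.bijective_algebraMap_fibre f') V
  exact ConcreteCategory.bijective_of_isIso (f'.app V)

variable (f : X ⟶ S) [IsProper f] [Flat f] [LocallyOfFinitePresentation f]
  [GeometricallyConnected f] [UnivStein f]

theorem bijective_app {T X' : Scheme.{u}} {u : T ⟶ S} {g' : X' ⟶ X} {f' : X' ⟶ T} (h : IsPullback g' f' f u)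
    (V : T.Opens) : Function.Bijective (f'.app V) :=
  UnivStein.bij h V

/-- The condition is Zariski local on the test scheme. -/
theorem cond_of_cover (hE : FlatMod.IsFinLocFree E) {T : Scheme.{u}} {u : T ⟶ S} (𝒱 : Scheme.OpenCover.{u} T)
    (h : ∀ i, Cond f E _ (𝒱.f i ≫ u)) : Cond f E T u := by
  let π := pullback.snd f u
  let G := (Scheme.Modules.pullback (pullback.fst f u)).obj E
  haveI := isQCoh_of_finLocFree hE
  haveI : Coh.IsQCoh G := EGA43.InjFibre.isQCoh_pullback _ E
  haveI : IsProper π := MorphismProperty.pullback_snd (P := @IsProper) _ _ inferInstance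
  let N := (Scheme.Modules.pushforward π).obj G
  let φ := (Scheme.Modules.pullbackPushforwardAdjunction π).counit.app G
  have key : ∀ i, FlatMod.IsFinLocFree ((Scheme.Modules.pullback (𝒱.f i)).obj N) ∧
      IsIso ((Scheme.Modules.pullback (pullback.fst π (𝒱.f i))).map φ) := fun i => by
    let g' := pullback.fst π (𝒱.f i)
    let π' := pullback.snd π (𝒱.f i)
    have hsq : IsPullback g' π' π (𝒱.f i) := IsPullback.of_hasPullback _ _
    obtain ⟨M, hM, ⟨e⟩⟩ := (h i).square (hsq.paste_horiz (IsPullback.of_hasPullback f u))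
    have hπ' := bijective_app f (hsq.paste_horiz (IsPullback.of_hasPullback f u))
    let e' : (Scheme.Modules.pullback π').obj M ≅ (Scheme.Modules.pullback g').obj G :=
      e.symm ≪≫ ((Scheme.Modules.pullbackComp g' (pullback.fst f u)).app E).symm
    haveI : IsIso (CohBC.bc0 π (𝒱.f i) π' g' hsq.w G) := CohExch.isIso_bc0_of_flat_morphism hsq G
    haveI := FreeFibres.isIso_counit_pullback π' hπ' hM e'
    exact ⟨Groth.Agent.FlatMorAdm.isFinLocFree_of_iso
      (pushIso hπ' hM e' ≪≫ (asIso (CohBC.bc0 π (𝒱.f i) π' g' hsq.w G)).symm) hM,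
      FreeFibres.isIso_pullback_counit hsq.w G⟩
  have hN : FlatMod.IsFinLocFree N := fun t => by
    obtain ⟨i, v, rfl⟩ : ∃ i v, 𝒱.f i v = t := ⟨_, (𝒱.exists_eq t).choose_spec⟩
    obtain ⟨U, n, hv, he⟩ := (key i).1 v
    obtain ⟨V, hV, e⟩ := freeNear_of_openImmersion (𝒱.f i) ⟨U, hv, he⟩
    exact ⟨V, n, hV, e⟩
  haveI : IsIso φ := isIso_of_flat_cover (fun i => pullback.fst π (𝒱.f i)) (fun z => by
    obtain ⟨i, v, hv⟩ : ∃ i v, 𝒱.f i v = π z := ⟨_, (𝒱.exists_eq (π z)).choose_spec⟩
    obtain ⟨p, hp, -⟩ := Scheme.Pullback.exists_preimage_pullback z v hv.symm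
    exact ⟨i, p, hp⟩) φ fun i => (key i).2
  exact ⟨N, hN, ⟨(asIso φ).symm⟩⟩

section Rank

variable (hE : FlatMod.IsFinLocFree E)

/-- The rank of `E` at a point. -/
noncomputable def rkX (E : X.Modules) (x : X) : ℕ := Module.finrank (X.presheaf.stalk x) (E.presheaf.stalk x)

/-- The rank of `E` along a fibre. -/
noncomputable def rkS (E : X.Modules) (s : S) : ℕ :=
  haveI : Nonempty (f.fiber s) := inferInstance
  rkX E (f.fiberι s (Classical.arbitrary (f.fiber s)))

include hE

theorem rkX_of_near {x : X} {n : ℕ} (h : FlatFun.IsFreeOfRankNear E n x) : rkX E x = n := by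
  haveI := isQCoh_of_finLocFree hE
  obtain ⟨U, hx, ⟨e⟩⟩ := h
  exact CohBC.finrank_stalk_of_free E hx e

theorem isLocallyConstant_rkX : IsLocallyConstant (rkX E) :=
  (IsLocallyConstant.iff_exists_open _).2 fun x => by
    obtain ⟨U, n, hx, he⟩ := hE x
    exact ⟨U, U.2, hx, fun y hy => by rw [rkX_of_near hE ⟨U, hy, he⟩, rkX_of_near hE ⟨U, hx, he⟩]⟩

theorem rkX_eq_rkS (x : X) : rkX E x = rkS f E (f x) := by
  obtain ⟨z, hz⟩ := (f.range_fiberι (f x)).ge (show f x = f x from rfl)
  haveI : Nonempty (f.fiber (f x)) := ⟨z⟩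
  have := ((isLocallyConstant_rkX hE).comp_continuous (f.fiberι (f x)).continuous).apply_eq_of_preconnectedSpace
    z (Classical.arbitrary (f.fiber (f x)))
  simp only [Function.comp_apply] at this
  rw [hz] at this
  exact this

theorem isLocallyConstant_rkS : IsLocallyConstant (rkS f E) :=
  (IsLocallyConstant.iff_exists_open _).2 fun s => by
    obtain ⟨z⟩ : Nonempty (f.fiber s) := inferInstance
    have hs : f (f.fiberι s z) = s := (f.range_fiberι s).le ⟨z, rfl⟩
    obtain ⟨U, hU, hxU, hconst⟩ := (IsLocallyConstant.iff_exists_open _).1 (isLocallyConstant_rkX hE) (f.fiberι s z)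
    refine ⟨f '' U, f.isOpenMap _ hU, ⟨_, hxU, hs⟩, ?_⟩
    rintro _ ⟨y, hy, rfl⟩
    rw [← rkX_eq_rkS f hE, hconst y hy, rkX_eq_rkS f hE, hs]

/-- The rank of a bundle on the base pulling back to `E`. -/
theorem rank_eq {T X' : Scheme.{u}} {u : T ⟶ S} {g' : X' ⟶ X} {f' : X' ⟶ T} (h : IsPullback g' f' f u)
    {M : T.Modules} (e : (Scheme.Modules.pullback g').obj E ≅ (Scheme.Modules.pullback f').obj M)
    {t : T} {m : ℕ} (hm : FlatFun.IsFreeOfRankNear M m t) : m = rkS f E (u t) := by
  obtain ⟨x, hx⟩ : ∃ x, f x = u t := by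
    obtain ⟨z⟩ : Nonempty (f.fiber (u t)) := inferInstance
    exact ⟨f.fiberι (u t) z, (f.range_fiberι (u t)).le ⟨z, rfl⟩⟩
  obtain ⟨p, hp₁, hp₂⟩ := Scheme.exists_preimage_of_isPullback h x t hx
  haveI := isQCoh_of_finLocFree hE
  haveI : Coh.IsQCoh ((Scheme.Modules.pullback g').obj E) := EGA43.InjFibre.isQCoh_pullback _ E
  obtain ⟨U, n, hxU, he⟩ := hE x
  obtain ⟨V₁, hV₁, ⟨e₁⟩⟩ := freeNear_pullback g' (M := E) (p := n) (y := p) ⟨U, hp₁ ▸ hxU, he⟩
  obtain ⟨V₂, hV₂, ⟨e₂⟩⟩ := freeNear_of_iso e.symm (freeNear_pullback f' (M := M) (p := m) (y := p) (hp₂ ▸ hm))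
  rw [← hx, ← rkX_eq_rkS f hE, rkX_of_near hE ⟨U, hxU, he⟩,
    ← CohBC.finrank_stalk_of_free _ hV₁ e₁, CohBC.finrank_stalk_of_free _ hV₂ e₂]

/-- A test morphism into the part of rank `r` gives a rank `r` direct image commuting with base change. -/
theorem Cond.stratum {T : Scheme.{u}} {u : T ⟶ S} {r : ℕ} (hu : ∀ t, rkS f E (u t) = r) (hc : Cond f E T u) :
    FlatMod.IsFinLocFreeOfRank r
        ((Scheme.Modules.pushforward (pullback.snd f u)).obj ((Scheme.Modules.pullback (pullback.fst f u)).obj E)) ∧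
      ∀ ⦃X'' T' : Scheme.{u}⦄ (v' : X'' ⟶ pullback f u) (f'' : X'' ⟶ T') (u' : T' ⟶ T)
        (h : IsPullback v' f'' (pullback.snd f u) u'),
        IsIso (CohBC.bc0 (pullback.snd f u) u' f'' v' h.w
          ((Scheme.Modules.pullback (pullback.fst f u)).obj E)) := by
  obtain ⟨M, hM, ⟨e⟩⟩ := hc
  have hπ := bijective_app f (IsPullback.of_hasPullback f u)
  refine ⟨fun t => ?_, fun X'' T' v' f'' u' h =>
    isIso_bc0_of_eq_pull h.w hπ (bijective_app f (h.paste_horiz (IsPullback.of_hasPullback f u))) hM e.symm⟩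
  obtain ⟨U, m, ht, he⟩ := hM t
  obtain rfl : m = r := (rank_eq f hE (IsPullback.of_hasPullback f u) e ⟨U, ht, he⟩).trans (hu t)
  exact freeNear_of_iso (pushIso hπ hM e.symm) ⟨U, ht, he⟩

/-- The see-saw subscheme over the part of rank `r`. -/
theorem exists_of_rank (r : ℕ) :
    ∃ (W : Scheme.{u}) (j : W ⟶ S), IsImmersion j ∧ LocallyOfFinitePresentation j ∧ QuasiCompact j ∧
      (∀ (T : Scheme.{u}) (u : T ⟶ S), (∃ l, l ≫ j = u) → Cond f E T u) ∧
      ∀ (T : Scheme.{u}) (u : T ⟶ S), (∀ t, rkS f E (u t) = r) → Cond f E T u → ∃ l, l ≫ j = u := by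
  haveI := isQCoh_of_finLocFree hE
  obtain ⟨Z, z, hz, hzfp, hzqc, hiff, -⟩ := S16956.result f E (Props12.isFP_of_isFinLocFree E hE)
    (CohBC.isFlatOver_of_isFinLocFree f hE) r
  let p := pullback.fst f z
  let π := pullback.snd f z
  let G := (Scheme.Modules.pullback p).obj E
  let N := (Scheme.Modules.pushforward π).obj G
  obtain ⟨hN, hbc⟩ := (hiff Z z).1 ⟨𝟙 Z, Category.id_comp z⟩
  have hN' : FlatMod.IsFinLocFree N := fun t => let ⟨U, ht, he⟩ := hN t; ⟨U, r, ht, he⟩
  have hG : FlatMod.IsFinLocFree G := Groth.Agent.FlatMorAdm.isFinLocFree_pullback p hE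
  have hπN : FlatMod.IsFinLocFree ((Scheme.Modules.pullback π).obj N) :=
    Groth.Agent.FlatMorAdm.isFinLocFree_pullback π hN'
  haveI := isQCoh_of_finLocFree hG
  haveI := isQCoh_of_finLocFree hπN
  haveI : IsProper π := MorphismProperty.pullback_snd (P := @IsProper) _ _ inferInstance
  haveI : Flat π := MorphismProperty.pullback_snd (P := @Flat) _ _ inferInstance
  haveI : LocallyOfFinitePresentation π :=
    MorphismProperty.pullback_snd (P := @LocallyOfFinitePresentation) _ _ inferInstance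
  let φ : (Scheme.Modules.pullback π).obj N ⟶ G := (Scheme.Modules.pullbackPushforwardAdjunction π).counit.app G
  obtain ⟨O, hOqc, hO⟩ := IsoLocusMod.exists_open φ π (Props12.isFP_of_isFinLocFree _ hπN)
    (Props12.isFP_of_isFinLocFree _ hG) (CohBC.isFlatOver_of_isFinLocFree π hG)
  refine ⟨O.toScheme, O.ι ≫ z, inferInstance, inferInstance, inferInstance, ?_, fun T u hu hc => ?_⟩
  · rintro T u ⟨l, rfl⟩
    let v := l ≫ O.ι
    have hv : v ≫ z = l ≫ O.ι ≫ z := Category.assoc _ _ _
    rw [← hv]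
    have hsq : IsPullback (pullback.fst π v) (pullback.snd π v) π v := IsPullback.of_hasPullback _ _
    haveI := (hO T v).2 (by rintro _ ⟨t, rfl⟩; exact (l t).2)
    exact cond_of_square (hsq.paste_horiz (IsPullback.of_hasPullback f z))
      (Groth.Agent.FlatMorAdm.isFinLocFree_pullback v hN')
      (((Scheme.Modules.pullbackComp (pullback.fst π v) p).app E).symm ≪≫
        (asIso ((Scheme.Modules.pullback (pullback.fst π v)).map φ)).symm ≪≫
        (Scheme.Modules.pullbackComp (pullback.fst π v) π).app N ≪≫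
        (Scheme.Modules.pullbackCongr hsq.w).app N ≪≫
        ((Scheme.Modules.pullbackComp (pullback.snd π v) v).app N).symm)
  · obtain ⟨v, rfl⟩ := (hiff T u).2 (hc.stratum f hE hu)
    have hsq : IsPullback (pullback.fst π v) (pullback.snd π v) π v := IsPullback.of_hasPullback _ _
    obtain ⟨M, hM, ⟨e⟩⟩ := hc.square (hsq.paste_horiz (IsPullback.of_hasPullback f z))
    have hπ' := bijective_app f (hsq.paste_horiz (IsPullback.of_hasPullback f z))
    haveI : IsIso (CohBC.bc0 π v (pullback.snd π v) (pullback.fst π v) hsq.w G) := hbc _ _ _ hsq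
    haveI : IsIso ((Scheme.Modules.pullbackPushforwardAdjunction (pullback.snd π v)).counit.app
        ((Scheme.Modules.pullback (pullback.fst π v)).obj G)) :=
      FreeFibres.isIso_counit_pullback (pullback.snd π v) hπ' hM
        (e.symm ≪≫ ((Scheme.Modules.pullbackComp (pullback.fst π v) p).app E).symm)
    have hr : Set.range v ⊆ Set.range O.ι := by
      rw [Scheme.Opens.range_ι]
      exact (hO T v).1 (FreeFibres.isIso_pullback_counit hsq.w G)
    exact ⟨IsOpenImmersion.lift O.ι v hr, by rw [IsOpenImmersion.lift_fac_assoc]⟩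

/-- **The see-saw subscheme of a vector bundle.** -/
theorem exists_seesaw :
    ∃ (Z : Scheme.{u}) (ι : Z ⟶ S), IsImmersion ι ∧ LocallyOfFinitePresentation ι ∧ QuasiCompact ι ∧
      (∀ (T : Scheme.{u}) (u : T ⟶ S), (∃ l, l ≫ ι = u) ↔ Cond f E T u) ∧
      Set.range ι = {s : S | ∃ n : ℕ, Nonempty ((Scheme.Modules.pullback (f.fiberι s)).obj E ≅ FlatMod.freeMod (f.fiber s) n)} := by
  let U : ULift.{u} ℕ → S.Opens := fun k =>
    ⟨{s | rkS f E s = k.down}, (isLocallyConstant_rkS f hE).isOpen_fiber k.down⟩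
  obtain ⟨Z, ι, ⟨⟨hι, hfp⟩, hqc⟩, hiff⟩ := CohExch.LocalSub.exists_of_locally S (Cond f E)
    (fun T T' x u h => h.precomp x) (@IsImmersion ⊓ @LocallyOfFinitePresentation ⊓ @QuasiCompact)
    (fun T u 𝒱 h => cond_of_cover f hE 𝒱 h) U
    (TopologicalSpace.IsOpenCover.mk (eq_top_iff.2 fun s _ => Opens.mem_iSup.2 ⟨⟨rkS f E s⟩, rfl⟩))
    (fun k => by
      obtain ⟨W, j, h1, h2, h3, h4, h5⟩ := exists_of_rank f hE k.down
      refine ⟨pullback j (U k).ι, pullback.snd j (U k).ι,
        ⟨⟨MorphismProperty.pullback_snd (P := @IsImmersion) _ _ h1,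
          MorphismProperty.pullback_snd (P := @LocallyOfFinitePresentation) _ _ h2⟩,
          MorphismProperty.pullback_snd (P := @QuasiCompact) _ _ h3⟩, inferInstance, fun T x => ⟨fun hc => ?_, ?_⟩⟩
      · obtain ⟨l, hl⟩ := h5 T (x ≫ (U k).ι) (fun t => (x t).2) hc
        exact ⟨pullback.lift l x hl, pullback.lift_snd _ _ _⟩
      · rintro ⟨l, rfl⟩
        exact h4 _ _ ⟨l ≫ pullback.fst j (U k).ι, by rw [Category.assoc, pullback.condition, Category.assoc]⟩)
  refine ⟨Z, ι, hι, hfp, hqc, fun T u => (hiff T u).symm, Set.ext fun s => ?_⟩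
  let p₀ : Spec (S.residueField s) := IsLocalRing.closedPoint (S.residueField s)
  have hp₀ : S.fromSpecResidueField s p₀ = s := S.fromSpecResidueField_apply s _
  constructor
  · rintro ⟨z, rfl⟩
    haveI : IsIso (ι.residueFieldMap z) := by
      rw [ConcreteCategory.isIso_iff_bijective]
      refine ⟨(ι.residueFieldMap z).hom.injective, fun a => ?_⟩
      obtain ⟨b, rfl⟩ := IsLocalRing.residue_surjective a
      obtain ⟨c, rfl⟩ := ι.stalkMap_surjective z b
      exact ⟨IsLocalRing.residue _ c, rfl⟩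
    obtain ⟨M, hM, ⟨e⟩⟩ := (hiff _ (S.fromSpecResidueField (ι z))).2
      ⟨Spec.map (inv (ι.residueFieldMap z)) ≫ Z.fromSpecResidueField z, by
        rw [Category.assoc, ← Scheme.Hom.SpecMap_residueFieldMap_fromSpecResidueField, ← Category.assoc,
          ← Spec.map_comp, IsIso.hom_inv_id, Spec.map_id, Category.id_comp]⟩
    obtain ⟨V, n, hV, ⟨t⟩⟩ := hM (IsLocalRing.closedPoint (S.residueField (ι z)))
    obtain rfl : V = ⊤ := top_le_iff.1 fun y _ => by
      obtain rfl : y = IsLocalRing.closedPoint (S.residueField (ι z)) :=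
        Subsingleton.elim (α := PrimeSpectrum (S.residueField (ι z))) _ _
      exact hV
    let T₀ := Spec (S.residueField (ι z))
    obtain ⟨e₁⟩ := nonempty_pullback_freeMod (Scheme.topIso T₀).inv n
    obtain ⟨e₂⟩ := nonempty_pullback_freeMod (f.fiberToSpecResidueField (ι z)) n
    have hid : (Scheme.topIso T₀).inv ≫ (⊤ : T₀.Opens).ι = 𝟙 _ := (Scheme.topIso _).inv_hom_id
    exact ⟨n, ⟨e ≪≫ (Scheme.Modules.pullback (f.fiberToSpecResidueField (ι z))).mapIso
      (((Scheme.Modules.pullbackId _).app M).symm ≪≫ ((Scheme.Modules.pullbackCongr hid).app M).symm ≪≫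
        ((Scheme.Modules.pullbackComp _ _).app M).symm ≪≫
        (Scheme.Modules.pullback (Scheme.topIso T₀).inv).mapIso
          (((Scheme.Modules.restrictFunctorIsoPullback (⊤ : T₀.Opens).ι).app M).symm ≪≫ t) ≪≫ e₁) ≪≫ e₂⟩⟩
  · rintro ⟨n, ⟨e⟩⟩
    obtain ⟨e₂⟩ := nonempty_pullback_freeMod (f.fiberToSpecResidueField s) n
    obtain ⟨l, hl⟩ := (hiff _ (S.fromSpecResidueField s)).1
      ⟨_, FlatFun.isFinLocFree_freeMod (Spec (S.residueField s)) n, ⟨e ≪≫ e₂.symm⟩⟩
    refine ⟨l p₀, ?_⟩
    rw [← Scheme.Hom.comp_apply, hl]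
    exact hp₀

end Rank

end Groth.Agent.FlatMor12.Cube.VectorSeesaw
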